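import Cfsg.Agent.Lib.TripleBase.Frame

/-!
The centraliser of a maximal line stabiliser modulo that stabiliser: trivial, or a four group with
`-1` a nonsquare in the field.
-/

set_option autoImplicit false
set_option linter.style.haveILetI false
set_option linter.unusedSectionVars false

open Subgroup
open scoped commutatorElement

namespace CfsgLib.TripleBase

open CfsgLib.OddBase

universe u

/-- In a finite field everything is a power of a given non `r`-th power times an `r`-th power. -/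
theorem exists_pow_mul {K : Type u} [Field K] [Finite K] {r : ℕ} (hr : r.Prime) {a b : K}
    (ha0 : a ≠ 0) (hb0 : b ≠ 0) (ha : ∀ μ : K, μ ^ r ≠ a) : ∃ i : ℕ, ∃ μ : K, b * a ^ i = μ ^ r := by
  obtain ⟨g, hg⟩ := IsCyclic.exists_generator (α := Kˣ)
  obtain ⟨m, hm⟩ := mem_zpowers_iff.1 (hg (Units.mk0 a ha0))
  obtain ⟨n, hn⟩ := mem_zpowers_iff.1 (hg (Units.mk0 b hb0))
  haveI := Fact.mk hr
  have hm0 : (m : ZMod r) ≠ 0 := fun e => by
    obtain ⟨t, ht⟩ := (ZMod.intCast_zmod_eq_zero_iff_dvd m r).1 e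
    refine ha ((g ^ t : Kˣ) : K) ?_
    rw [← Units.val_pow_eq_pow_val, ← zpow_natCast, ← zpow_mul, mul_comm t, ← ht, hm, Units.val_mk0]
  set i : ℕ := (-(n : ZMod r) / (m : ZMod r)).val with hi
  have h0 : ((n + m * i : ℤ) : ZMod r) = 0 := by
    push_cast
    rw [hi, ZMod.natCast_zmod_val, mul_div_cancel₀ _ hm0, add_neg_cancel]
  obtain ⟨t, ht⟩ := (ZMod.intCast_zmod_eq_zero_iff_dvd _ r).1 h0
  refine ⟨i, ((g ^ t : Kˣ) : K), ?_⟩
  have e : Units.mk0 b hb0 * Units.mk0 a ha0 ^ i = (g ^ t) ^ r := by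
    rw [← hn, ← hm, ← zpow_natCast, ← zpow_mul, ← zpow_add, ht, ← zpow_natCast, ← zpow_mul,
      mul_comm]
  have := congrArg Units.val e
  simpa using this

variable {A : Type u} [Group A] [Finite A] {K : Type u} [Field K] [Finite K] {V : Type u}
  [AddCommGroup V] [Module K V] {ρ : A →* AddMonoid.End V} {U E L : Subgroup A} {χ : A → K}
  {V₀ : Submodule K V} {v : V}

namespace Eigen

/-- A root extraction gives an eigenvector. -/
theorem mem_of_root (F : Frame K ρ U E) (h : Eigen ρ U E L χ V₀ v) {w : A}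
    (hw : w ∈ E ⊓ centralizer (L : Set A)) {r : ℕ} (hr : r.Prime) (hwr : w ^ r ∈ L) {μ : K}
    (hμ : χ (w ^ r) = μ ^ r) {ζ : K} (hζ : ζ ^ r = 1) (hζ1 : ζ ≠ 1) : w ∈ L := by
  have hμ0 : μ ≠ 0 := fun e => h.chi_ne_zero hwr (by rw [hμ, e, zero_pow hr.ne_zero])
  have hmem : ∀ i, ρ (w ^ i) v ∈ V₀ := fun i =>
    h.apply_mem F ((E ⊓ centralizer (L : Set A)).pow_mem hw i) h.v_mem
  let u : ℕ → V := fun j => ∑ i ∈ Finset.range r, (ζ ^ j / μ) ^ i • ρ (w ^ i) v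
  have heig : ∀ j, ρ w (u j) = (μ / ζ ^ j) • u j := by
    intro j
    have hc : ζ ^ j / μ ≠ 0 := div_ne_zero (pow_ne_zero _ fun e => by
      rw [e, zero_pow hr.ne_zero] at hζ; exact zero_ne_one hζ) hμ0
    have e0 : (ζ ^ j / μ) ^ r • ρ (w ^ r) v = (ζ ^ j / μ) ^ 0 • ρ (w ^ 0) v := by
      rw [h.apply' _ hwr v h.v_mem, hμ, smul_smul, div_pow, ← pow_mul, mul_comm j, pow_mul, hζ,
        one_pow, div_mul_cancel₀ _ (pow_ne_zero _ hμ0), pow_zero, pow_zero, map_one]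
      rfl
    have e1 : ∑ i ∈ Finset.range r, (ζ ^ j / μ) ^ (i + 1) • ρ (w ^ (i + 1)) v = u j := by
      have h1 := Finset.sum_range_succ' (fun i => (ζ ^ j / μ) ^ i • ρ (w ^ i) v) r
      have h2 := Finset.sum_range_succ (fun i => (ζ ^ j / μ) ^ i • ρ (w ^ i) v) r
      rw [h2, e0] at h1
      exact (add_right_cancel h1).symm
    calc ρ w (u j) = ∑ i ∈ Finset.range r, (ζ ^ j / μ) ^ i • ρ (w ^ (i + 1)) v := by
          rw [map_sum]
          refine Finset.sum_congr rfl fun i _ => ?_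
          rw [F.lin w hw.1, ← apply_mul, pow_succ']
      _ = (μ / ζ ^ j) • ∑ i ∈ Finset.range r, (ζ ^ j / μ) ^ (i + 1) • ρ (w ^ (i + 1)) v := by
          rw [Finset.smul_sum]
          refine Finset.sum_congr rfl fun i _ => ?_
          rw [smul_smul, pow_succ' (ζ ^ j / μ), ← mul_assoc, ← inv_div (ζ ^ j) μ,
            inv_mul_cancel₀ hc, one_mul]
      _ = _ := by rw [e1]
  have hsum : ∑ j ∈ Finset.range r, u j = (r : K) • v := by
    simp only [u]
    rw [Finset.sum_comm, Finset.sum_eq_single 0]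
    · simp only [pow_zero, one_smul, Finset.sum_const, Finset.card_range, map_one]
      exact (Nat.cast_smul_eq_nsmul K r v).symm
    · intro i hi hi0
      rw [← Finset.sum_smul]
      have : ∑ j ∈ Finset.range r, (ζ ^ j / μ) ^ i = 0 := by
        simp only [div_pow, ← pow_mul]
        rw [← Finset.sum_div]
        rw [Finset.sum_congr rfl fun j _ => show ζ ^ (j * i) = (ζ ^ i) ^ j by
          rw [← pow_mul, mul_comm]]
        have hne : ζ ^ i ≠ 1 := fun e => hζ1 (by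
          have := pow_gcd_eq_one.2 ⟨e, hζ⟩
          rwa [((hr.coprime_iff_not_dvd).2 fun hd => hi0 (Nat.eq_zero_of_dvd_of_lt hd
            (Finset.mem_range.1 hi))).symm.gcd_eq_one, pow_one] at this)
        rw [geom_sum_eq hne, ← pow_mul, mul_comm i, pow_mul, hζ, one_pow, sub_self, zero_div,
          zero_div]
      rw [this, zero_smul]
    · intro h0
      exact absurd (Finset.mem_range.2 hr.pos) h0
  have hr0 : (r : K) ≠ 0 := fun e => hζ1 (by
    obtain ⟨p, hp⟩ := CharP.exists K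
    have hd : p ∣ r := (CharP.cast_eq_zero_iff K p r).1 e
    obtain rfl : p = r := ((Nat.dvd_prime hr).1 hd).resolve_left (CharP.char_ne_one K p)
    haveI := Fact.mk hr
    have h1 : (ζ - 1) ^ p = 0 := by rw [sub_pow_char, hζ, one_pow, sub_self]
    exact sub_eq_zero.1 ((pow_eq_zero_iff hr.ne_zero).1 h1))
  obtain ⟨j, -, hj⟩ := Finset.exists_ne_zero_of_sum_ne_zero
    (show ∑ j ∈ Finset.range r, u j ≠ 0 by rw [hsum]; exact smul_ne_zero hr0 h.v_ne)
  refine h.max w hw.1 (u j) ?_ hj _ (heig j)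
  exact V₀.sum_mem fun i _ => V₀.smul_mem _ (hmem i)

theorem comm_eq_one (h : Eigen ρ U E L χ V₀ v) {x y : A} (hx : x ∈ L)
    (hy : y ∈ E ⊓ centralizer (L : Set A)) : ⁅y, x⁆ = 1 :=
  commutatorElement_eq_one_iff_mul_comm.2 (mem_centralizer_iff.1 hy.2 x hx).symm

theorem comm_eq_one' (h : Eigen ρ U E L χ V₀ v) {x y : A} (hx : x ∈ L)
    (hy : y ∈ E ⊓ centralizer (L : Set A)) : ⁅x, y⁆ = 1 :=
  commutatorElement_eq_one_iff_mul_comm.2 (mem_centralizer_iff.1 hy.2 x hx)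

theorem mul_pow_choose (hL : Layer U E) {a b : A} (ha : a ∈ E) (hb : b ∈ E) :
    ∀ n : ℕ, (a * b) ^ n = ⁅b, a⁆ ^ n.choose 2 * (a ^ n * b ^ n) := by
  intro n
  induction n with
  | zero => simp
  | succ n ih =>
    have hc := hL.comm b hb a ha
    have hcm : ∀ k : ℕ, ∀ x ∈ E, ⁅b, a⁆ ^ k * x = x * ⁅b, a⁆ ^ k := fun k x hx =>
      hL.commute (U.pow_mem hc k) hx
    have e1 : b ^ n * a = ⁅b, a⁆ ^ n * (a * b ^ n) := by
      rw [← comm_pow_left hL hb ha n, commutatorElement_def]; group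
    rw [pow_succ, ih, Nat.choose_succ_succ, Nat.choose_one_right, pow_add]
    calc ⁅b, a⁆ ^ n.choose 2 * (a ^ n * b ^ n) * (a * b)
        = ⁅b, a⁆ ^ n.choose 2 * (a ^ n * (b ^ n * a) * b) := by group
      _ = ⁅b, a⁆ ^ n.choose 2 * ((a ^ n * ⁅b, a⁆ ^ n) * (a * b ^ n * b)) := by rw [e1]; group
      _ = ⁅b, a⁆ ^ n.choose 2 * ((⁅b, a⁆ ^ n * a ^ n) * (a * b ^ n * b)) := by
          rw [hcm n _ (E.pow_mem ha n)]
      _ = ⁅b, a⁆ ^ n.choose 2 * ⁅b, a⁆ ^ n * (a ^ (n + 1) * b ^ (n + 1)) := by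
          rw [pow_succ a, pow_succ b]; group
      _ = _ := by rw [← pow_add, ← pow_add, add_comm]

/-- A nontrivial commutator with an element of prime order modulo `L`. -/
theorem exists_zeta (F : Frame K ρ U E) (h : Eigen ρ U E L χ V₀ v) {y : A}
    (hy : y ∈ E ⊓ centralizer (L : Set A)) (hyL : y ∉ L) {r : ℕ} (hyr : y ^ r ∈ L) :
    ∃ ζ : K, ζ ^ r = 1 ∧ ζ ≠ 1 := by
  obtain ⟨x, hx, hne⟩ := h.exists_comm F hy hyL
  have hU := F.layer.comm y hy.1 x hx.1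
  refine ⟨χ ⁅y, x⁆, ?_, fun e => hne (h.chi_inj F hU e)⟩
  rw [← h.chi_pow F (h.le hU), ← comm_pow_left F.layer hy.1 hx.1, h.comm_eq_one' hyr hx, h.chi_one]

/-- Two elements of the same prime order modulo `L` are dependent when they commute, when the
prime is odd, or when `-1` is a square. -/
theorem exists_mul_pow_mem (F : Frame K ρ U E) (h : Eigen ρ U E L χ V₀ v) {y y' : A}
    (hy : y ∈ E ⊓ centralizer (L : Set A)) (hyL : y ∉ L)
    (hy' : y' ∈ E ⊓ centralizer (L : Set A)) {r : ℕ} (hr : r.Prime) (hyr : y ^ r ∈ L)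
    (hyr' : y' ^ r ∈ L) (hcase : ⁅y, y'⁆ = 1 ∨ r ≠ 2 ∨ IsSquare (-1 : K)) :
    ∃ i : ℕ, y' * y ^ i ∈ L := by
  obtain ⟨ζ, hζ, hζ1⟩ := h.exists_zeta F hy hyL hyr
  obtain ⟨i, μ, hμ⟩ := exists_pow_mul hr (h.chi_ne_zero hyr) (h.chi_ne_zero hyr')
    fun μ e => hyL (h.mem_of_root F hy hr hyr e.symm hζ hζ1)
  set w := y ^ i with hw
  have hwE := (E ⊓ centralizer (L : Set A)).pow_mem hy i
  have hwr : w ^ r = (y ^ r) ^ i := by rw [hw, ← pow_mul, mul_comm, pow_mul]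
  have hwrL : w ^ r ∈ L := hwr ▸ L.pow_mem hyr i
  set z := ⁅w, y'⁆ with hz
  have hzU : z ∈ U := F.layer.comm w hwE.1 y' hy'.1
  have hzr : z ^ r = 1 := by rw [← comm_pow_left F.layer hwE.1 hy'.1, h.comm_eq_one' hwrL hy']
  obtain ⟨ν, hν⟩ : ∃ ν : K, χ (z ^ r.choose 2) = ν ^ r := by
    rcases hcase with hc | hc
    · refine ⟨1, ?_⟩
      rw [hz, hw, comm_pow_left F.layer hy.1 hy'.1, hc, one_pow, one_pow, one_pow, h.chi_one]
    · rcases eq_or_ne r 2 with rfl | hr2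
      · obtain ⟨ι, hι⟩ := hc.resolve_left (fun e => e rfl)
        have h1 : χ z ^ 2 = 1 := by rw [← h.chi_pow F (h.le hzU), hzr, h.chi_one]
        rw [Nat.choose_self, pow_one]
        rcases sq_eq_one_iff.1 h1 with e | e
        · exact ⟨1, by rw [e, one_pow]⟩
        · exact ⟨ι, by rw [e, hι, pow_two]⟩
      · refine ⟨1, ?_⟩
        obtain ⟨t, ht⟩ := hr.dvd_choose_self (by norm_num : 2 ≠ 0)
          (lt_of_le_of_ne hr.two_le (Ne.symm hr2))
        rw [ht, pow_mul, hzr, one_pow, one_pow, h.chi_one]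
  have hzc := U.pow_mem hzU (r.choose 2)
  have e1 : (y' * w) ^ r = z ^ r.choose 2 * (y' ^ r * w ^ r) :=
    mul_pow_choose F.layer hy'.1 hwE.1 r
  have hmemr : (y' * w) ^ r ∈ L := e1 ▸ L.mul_mem (h.le hzc) (L.mul_mem hyr' hwrL)
  refine ⟨i, h.mem_of_root F ((E ⊓ centralizer (L : Set A)).mul_mem hy' hwE) hr hmemr
    (μ := ν * μ) ?_ hζ hζ1⟩
  rw [e1, h.chi_mul F (h.le hzc) (L.mul_mem hyr' hwrL), h.chi_mul F hyr' hwrL, hwr,
    h.chi_pow F hyr, hν, hμ, mul_pow]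

/-- No odd torsion modulo `L`; none at all if `-1` is a square. -/
theorem no_torsion (F : Frame K ρ U E) (h : Eigen ρ U E L χ V₀ v) {y : A}
    (hy : y ∈ E ⊓ centralizer (L : Set A)) {r : ℕ} (hr : r.Prime) (hyr : y ^ r ∈ L)
    (hcase : r ≠ 2 ∨ IsSquare (-1 : K)) : y ∈ L := by
  by_contra hyL
  obtain ⟨x, hx, hne⟩ := h.exists_comm F hy hyL
  set z := ⁅y, x⁆ with hz
  have hzr : z ^ r = 1 := by rw [← comm_pow_left F.layer hy.1 hx.1, h.comm_eq_one' hyr hx]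
  classical
  have hex : ∃ n, 0 < n ∧ x ^ n ∈ L :=
    ⟨orderOf x, orderOf_pos x, by rw [pow_orderOf_eq_one]; exact L.one_mem⟩
  obtain ⟨hn0, hn⟩ := Nat.find_spec hex
  set n := Nat.find hex with hndef
  have hzn : z ^ n = 1 := by rw [← comm_pow_right F.layer hy.1 hx.1, h.comm_eq_one hn hy]
  have hrn : r ∣ n := by
    by_contra hnd
    have := pow_gcd_eq_one.2 ⟨hzr, hzn⟩
    rw [((hr.coprime_iff_not_dvd).2 hnd).gcd_eq_one, pow_one] at this
    exact hne this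
  obtain ⟨t, ht⟩ := hrn
  have ht0 : 0 < t := Nat.pos_of_ne_zero fun e => by rw [e, mul_zero] at ht; omega
  have htn : t < n := by rw [ht]; exact lt_mul_of_one_lt_left ht0 hr.one_lt
  set w := x ^ t with hw
  have hwP := (E ⊓ centralizer (L : Set A)).pow_mem hx t
  have hwL : w ∉ L := fun e => Nat.find_min hex htn ⟨ht0, e⟩
  have hwr : w ^ r ∈ L := by rw [hw, ← pow_mul, mul_comm, ← ht]; exact hn
  obtain ⟨i, hi⟩ := h.exists_mul_pow_mem F hwP hwL hy hr hwr hyr (Or.inr hcase)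
  refine hne ?_
  have e1 : ⁅y * w ^ i, x⁆ = 1 := h.comm_eq_one' hi hx
  have e2 : ⁅w ^ i, x⁆ = 1 := by
    rw [hw, ← pow_mul, commutatorElement_eq_one_iff_mul_comm]
    exact (Commute.pow_self x _).eq
  rw [comm_mul_left F.layer hx.1 hy.1 ((E.pow_mem hwP.1 i)), e2, one_mul] at e1
  exact e1

/-- Squares lie in `L`. -/
theorem sq_mem (F : Frame K ρ U E) (h : Eigen ρ U E L χ V₀ v) {y : A}
    (hy : y ∈ E ⊓ centralizer (L : Set A)) : y ^ 2 ∈ L := by
  classical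
  by_contra hy2
  have hex : ∃ n, 0 < n ∧ y ^ n ∈ L :=
    ⟨orderOf y, orderOf_pos y, by rw [pow_orderOf_eq_one]; exact L.one_mem⟩
  obtain ⟨hn0, hn⟩ := Nat.find_spec hex
  set n := Nat.find hex with hndef
  have hmin : ∀ t, 0 < t → t < n → y ^ t ∉ L := fun t h0 ht e => Nat.find_min hex ht ⟨h0, e⟩
  have hn1 : n ≠ 1 := fun e => hy2 (by rw [e, pow_one] at hn; exact L.pow_mem hn 2)
  have hn2 : n ≠ 2 := fun e => hy2 (e ▸ hn)
  by_cases h4 : 4 ∣ n
  · obtain ⟨t, ht⟩ := h4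
    set w := (y ^ t) ^ 2 with hw
    have htP := (E ⊓ centralizer (L : Set A)).pow_mem hy t
    have hwL : w ∉ L := by rw [hw, ← pow_mul]; exact hmin _ (by omega) (by omega)
    have hw2 : w ^ 2 ∈ L := by
      rw [hw, ← pow_mul, ← pow_mul, show t * (2 * 2) = n by omega]; exact hn
    have hwP : w ∈ E ⊓ centralizer (L : Set A) := (E ⊓ centralizer (L : Set A)).pow_mem htP 2
    obtain ⟨x, hx, hne⟩ := h.exists_comm F hwP hwL
    have hU := F.layer.comm _ hwP.1 x hx.1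
    have h1 : χ ⁅w, x⁆ ^ 2 = 1 := by
      rw [← h.chi_pow F (h.le hU), ← comm_pow_left F.layer hwP.1 hx.1, h.comm_eq_one' hw2 hx,
        h.chi_one]
    have h2 : χ ⁅w, x⁆ = -1 :=
      (sq_eq_one_iff.1 h1).resolve_left fun e => hne (h.chi_inj F hU e)
    have hsq : IsSquare (-1 : K) := ⟨χ ⁅y ^ t, x⁆, by
      rw [← h2, hw, comm_pow_left F.layer htP.1 hx.1,
        h.chi_pow F (h.le (F.layer.comm _ htP.1 x hx.1)), pow_two]⟩
    exact hwL (h.no_torsion F hwP Nat.prime_two hw2 (Or.inr hsq))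
  · obtain ⟨r, hr, hrn, hr2⟩ : ∃ r, r.Prime ∧ r ∣ n ∧ r ≠ 2 := by
      by_contra hcon
      push Not at hcon
      obtain ⟨k, hk⟩ : ∃ k, n = 2 ^ k :=
        ⟨_, Nat.eq_prime_pow_of_unique_prime_dvd hn0.ne' fun {d} hd hdn => hcon d hd hdn⟩
      rcases k with _ | _ | k
      · exact hn1 hk
      · exact hn2 hk
      · exact h4 ⟨2 ^ k, by rw [hk]; ring⟩
    obtain ⟨t, ht⟩ := hrn
    have ht0 : 0 < t := Nat.pos_of_ne_zero fun e => by rw [e, mul_zero] at ht; omega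
    have htn : t < n := by rw [ht]; exact lt_mul_of_one_lt_left ht0 hr.one_lt
    refine hmin t ht0 htn (h.no_torsion F ((E ⊓ centralizer (L : Set A)).pow_mem hy t) hr ?_
      (Or.inl hr2))
    rw [← pow_mul, mul_comm, ← ht]
    exact hn

/-- Four classes modulo `L`, with `-1` a nonsquare. -/
theorem four_classes (F : Frame K ρ U E) (h : Eigen ρ U E L χ V₀ v)
    (hne : ¬ E ⊓ centralizer (L : Set A) ≤ L) :
    ∃ y ∈ E ⊓ centralizer (L : Set A), y ∉ L ∧ y ^ 2 ∈ L ∧ ¬ IsSquare (-1 : K) ∧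
      (∀ μ : K, μ ^ 2 ≠ χ (y ^ 2)) ∧
      ∃ R : Fin 4 → A, ∀ w ∈ E ⊓ centralizer (L : Set A), ∃ i, (R i)⁻¹ * w ∈ L := by
  set P := E ⊓ centralizer (L : Set A) with hP
  obtain ⟨y, hy, hyL⟩ := SetLike.not_le_iff_exists.1 hne
  have hy2 := h.sq_mem F hy
  have hsq : ¬ IsSquare (-1 : K) := fun hs =>
    hyL (h.no_torsion F hy Nat.prime_two hy2 (Or.inr hs))
  obtain ⟨ζ, hζ, hζ1⟩ := h.exists_zeta F hy hyL hy2
  obtain ⟨y', hy', hne'⟩ := h.exists_comm F hy hyL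
  refine ⟨y, hy, hyL, hy2, hsq,
    fun μ e => hyL (h.mem_of_root F hy Nat.prime_two hy2 e.symm hζ hζ1),
    ![1, y⁻¹, y'⁻¹, (y * y')⁻¹], fun w hw => ?_⟩
  set z := ⁅y, y'⁆ with hz
  -- commutators of elements of `P` with `y` and `y'`
  have hval : ∀ a ∈ P, ∀ b ∈ P, ⁅a, b⁆ = 1 ∨ ⁅a, b⁆ = z := by
    have hval' : ∀ a ∈ P, ∀ b ∈ P, ⁅a, b⁆ ≠ 1 → χ ⁅a, b⁆ = -1 := by
      intro a ha b hb hab
      have hU := F.layer.comm a ha.1 b hb.1
      refine (sq_eq_one_iff.1 ?_).resolve_left fun e => hab (h.chi_inj F hU e)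
      rw [← h.chi_pow F (h.le hU), ← comm_pow_left F.layer ha.1 hb.1,
        h.comm_eq_one' (h.sq_mem F ha) hb, h.chi_one]
    intro a ha b hb
    by_cases hab : ⁅a, b⁆ = 1
    · exact Or.inl hab
    refine Or.inr ?_
    have hU := F.layer.comm a ha.1 b hb.1
    have hzU := F.layer.comm y hy.1 y' hy'.1
    have h1 : χ (⁅a, b⁆ * z⁻¹) * χ z = χ ⁅a, b⁆ := by
      rw [← h.chi_mul F (h.le (U.mul_mem hU (U.inv_mem hzU))) (h.le hzU), inv_mul_cancel_right]
    rw [hval' a ha b hb hab, hval' y hy y' hy' hne', mul_eq_right₀ (by simp)] at h1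
    exact mul_inv_eq_one.1 (h.chi_inj F (U.mul_mem hU (U.inv_mem hzU)) h1)
  have hzz : z * z = 1 := by
    rw [← pow_two, hz, ← comm_pow_left F.layer hy.1 hy'.1, h.comm_eq_one' hy2 hy']
  -- an element of `P` commuting with `y` and `y'` lies in `L`
  have hboth : ∀ w' ∈ P, ⁅y, w'⁆ = 1 → ⁅y', w'⁆ = 1 → w' ∈ L := by
    intro w' hw' e1 e2
    obtain ⟨i, hi⟩ := h.exists_mul_pow_mem F hy hyL hw' Nat.prime_two hy2 (h.sq_mem F hw') (Or.inl e1)
    have e3 : ⁅y', w' * y ^ i⁆ = 1 := h.comm_eq_one hi hy'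
    rw [comm_mul_right F.layer hy'.1 hw'.1 (E.pow_mem hy.1 i), e2, one_mul,
      comm_pow_right F.layer hy'.1 hy.1] at e3
    have e4 : z ^ i = 1 := by
      rw [hz, ← inv_inj, ← inv_pow, commutatorElement_inv, e3, inv_one]
    obtain ⟨k, hk⟩ : Even i := by
      rcases Nat.even_or_odd i with he | ⟨k, hk⟩
      · exact he
      · rw [hk, pow_succ, pow_mul, pow_two, hzz, one_pow, one_mul] at e4
        exact absurd e4 hne'
    have h3 : y ^ i ∈ L := by rw [hk, ← two_mul, pow_mul]; exact L.pow_mem hy2 k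
    exact (L.mul_mem_cancel_right h3).1 hi
  have hsymm : ⁅y', y⁆ = z := by
    rw [← commutatorElement_inv, ← hz]
    exact inv_eq_of_mul_eq_one_left hzz
  have key : ∀ g ∈ P, ⁅y, g⁆ * ⁅y, w⁆ = 1 → ⁅y', g⁆ * ⁅y', w⁆ = 1 → g * w ∈ L := by
    intro g hg e1 e2
    refine hboth _ (P.mul_mem hg hw) ?_ ?_
    · rw [comm_mul_right F.layer hy.1 hg.1 hw.1, e1]
    · rw [comm_mul_right F.layer hy'.1 hg.1 hw.1, e2]
  rcases hval y hy w hw with e1 | e1 <;> rcases hval y' hy' w hw with e2 | e2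
  · refine ⟨0, ?_⟩
    simpa using key 1 P.one_mem (by simp [e1]) (by simp [e2])
  · refine ⟨1, ?_⟩
    simpa using key y hy (by simp [e1]) (by rw [hsymm, e2, hzz])
  · refine ⟨2, ?_⟩
    simpa using key y' hy' (by rw [← hz, e1, hzz]) (by simp [e2])
  · refine ⟨3, ?_⟩
    simpa using key (y * y') (P.mul_mem hy hy')
      (by rw [comm_mul_right F.layer hy.1 hy.1 hy'.1, commutatorElement_self, one_mul, ← hz, e1, hzz])
      (by rw [comm_mul_right F.layer hy'.1 hy.1 hy'.1, commutatorElement_self, mul_one, hsymm, e2, hzz])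

end Eigen

end CfsgLib.TripleBase
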