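import Cfsg.Agent.Lib.TripleBase.Basic
import Cfsg.Agent.Lib.InvChar.SmallSolvable

/-!
Five orbits of free triples for an irreducible solvable action with a base of three vectors.
-/

set_option autoImplicit false
set_option linter.style.haveILetI false

open scoped commutatorElement

namespace CfsgLib.TripleBase

open CfsgLib.OddBase

universe u w

variable {V : Type w} [AddCommGroup V]

theorem perm_apply_inv {α : Type*} (g : Equiv.Perm α) (x : α) : g (g⁻¹ x) = x :=
  Equiv.apply_symm_apply g x

/-- The elementary operation adding entry `j` to entry `i`. -/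
def transvection (i j : Fin 3) (h : j ≠ i) : Equiv.Perm (Fin 3 → V) where
  toFun x := Function.update x i (x i + x j)
  invFun x := Function.update x i (x i - x j)
  left_inv x := by funext l; by_cases hl : l = i <;> simp [hl, h]
  right_inv x := by funext l; by_cases hl : l = i <;> simp [hl, h]

theorem transvection_apply (i j : Fin 3) (h : j ≠ i) (x : Fin 3 → V) :
    transvection i j h x = Function.update x i (x i + x j) := rfl

theorem transvection_inv_apply (i j : Fin 3) (h : j ≠ i) (x : Fin 3 → V) :
    (transvection i j h)⁻¹ x = Function.update x i (x i - x j) := rfl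

theorem transvection_comm (i j k : Fin 3) (hji : j ≠ i) (hki : k ≠ i) (hjk : j ≠ k) :
    ⁅(transvection i k hki : Equiv.Perm (Fin 3 → V)), transvection (V := V) k j hjk⁆ =
      transvection (V := V) i j hji := by
  refine Equiv.ext fun x => funext fun l => ?_
  simp only [commutatorElement_def, Equiv.Perm.mul_apply, transvection_apply, transvection_inv_apply,
    Function.update_apply, hji, hki, hjk, hki.symm, if_false, if_true]
  split_ifs with h1 h2
  all_goals first
    | abel1
    | (subst h2; abel1)

/-- The bijections of triples commuting with every endomorphism acting diagonally. -/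
def diagCentralizer (V : Type w) [AddCommGroup V] : Subgroup (Equiv.Perm (Fin 3 → V)) where
  carrier := {g | ∀ (ψ : V →+ V) (x : Fin 3 → V), g (ψ ∘ x) = ψ ∘ g x}
  one_mem' ψ x := rfl
  mul_mem' {g h} hg hh ψ x := by
    rw [Equiv.Perm.mul_apply, Equiv.Perm.mul_apply, hh, hg]
  inv_mem' {g} hg ψ x := by
    apply g.injective
    rw [hg, perm_apply_inv, perm_apply_inv]

theorem transvection_mem (i j : Fin 3) (h : j ≠ i) :
    transvection i j h ∈ diagCentralizer V := by
  intro ψ x
  funext l
  simp only [transvection_apply, Function.update_apply, Function.comp_apply]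
  split_ifs <;> simp [map_add]

/-- The group generated by the six elementary operations. -/
def transGroup (V : Type w) [AddCommGroup V] : Subgroup (Equiv.Perm (Fin 3 → V)) :=
  Subgroup.closure {g | ∃ i j, ∃ h : j ≠ i, g = transvection i j h}

theorem transGroup_le : transGroup V ≤ diagCentralizer V := by
  refine (Subgroup.closure_le _).2 ?_
  rintro _ ⟨i, j, h, rfl⟩
  exact transvection_mem i j h

theorem not_isSolvable_transGroup (hV : ∃ v : V, v ≠ 0) :
    ¬ Group.IsSolvable (transGroup V) := by
  intro hs
  obtain ⟨v, hv⟩ := hV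
  have hmem : ∀ (i j : Fin 3) (h : j ≠ i), (transvection i j h : Equiv.Perm (Fin 3 → V)) ∈
      transGroup V := fun i j h => Subgroup.subset_closure ⟨i, j, h, rfl⟩
  haveI : Nontrivial (transGroup V) := by
    refine ⟨⟨⟨_, hmem 0 1 (by decide)⟩, 1, fun e => hv ?_⟩⟩
    have := congrArg (fun g : transGroup V => (g : Equiv.Perm (Fin 3 → V)) (fun _ => v) 0) e
    simpa [transvection_apply] using this
  have h2 := hs.commutator_lt_top_of_nontrivial
  refine h2.ne (eq_top_iff.2 fun g _ => ?_)
  have hle : transGroup V ≤ (commutator (transGroup V)).map (transGroup V).subtype := by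
    refine (Subgroup.closure_le _).2 ?_
    rintro _ ⟨i, j, h, rfl⟩
    obtain ⟨k, hki, hjk⟩ : ∃ k, k ≠ i ∧ j ≠ k :=
      (by decide : ∀ i j : Fin 3, ∃ k, k ≠ i ∧ j ≠ k) i j
    exact ⟨⁅(⟨_, hmem i k hki⟩ : transGroup V), ⟨_, hmem k j hjk⟩⁆,
      Subgroup.commutator_mem_commutator (Subgroup.mem_top _) (Subgroup.mem_top _),
      transvection_comm i j k h hki hjk⟩
  obtain ⟨g', hg', e⟩ := hle g.2
  rwa [← Subtype.ext e (a2 := g)]

variable {A : Type u} [Group A] {ρ : A →* AddMonoid.End V}

/-- Five triples, each free, in five different orbits. -/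
def FiveFree (ρ : A →* AddMonoid.End V) : Prop :=
  ∃ p : Fin 5 → Fin 3 → V, (∀ j, Free3 ρ (p j)) ∧
    ∀ i j a, (∀ k, ρ a (p i k) = p j k) → i = j

/-- Five orbits from one independent free triple. -/
theorem fiveFree_of_indep [Finite A] [Group.IsSolvable A] [Finite V] {r : ℕ} [Fact r.Prime]
    [Module (ZMod r) V] {t : Fin 3 → V} (hli : LinearIndependent (ZMod r) t) (hfree : Free3 ρ t) :
    FiveFree ρ := by
  classical
  haveI : Finite (AddMonoid.End V) := Finite.of_injective _ DFunLike.coe_injective
  have hV : ∃ v : V, v ≠ 0 := ⟨t 0, hli.ne_zero 0⟩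
  have hG : ∀ (g : transGroup V) (ψ : AddMonoid.End V) (x : Fin 3 → V),
      (g : Equiv.Perm (Fin 3 → V)) (ψ ∘ x) = ψ ∘ (g : Equiv.Perm (Fin 3 → V)) x :=
    fun g => transGroup_le g.2
  have hext : ∀ x : Fin 3 → V, ∃ ψ : AddMonoid.End V, ψ ∘ t = x := by
    intro x
    obtain ⟨φ, hφ⟩ := LinearMap.exists_extend ((Module.Basis.span hli).constr (ZMod r) x)
    refine ⟨φ.toAddMonoidHom, funext fun i => ?_⟩
    show φ (t i) = x i
    have := LinearMap.congr_fun hφ (Module.Basis.span hli i)
    rw [Module.Basis.constr_basis, LinearMap.comp_apply] at this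
    simpa [Module.Basis.span_apply] using this
  have hfreeg : ∀ g : transGroup V, Free3 ρ ((g : Equiv.Perm (Fin 3 → V)) t) := by
    intro g a ha
    refine hfree a fun i => ?_
    have h1 : (ρ a : V → V) ∘ (g : Equiv.Perm (Fin 3 → V)) t = (g : Equiv.Perm (Fin 3 → V)) t :=
      funext ha
    rw [← hG g] at h1
    exact congrFun ((g : Equiv.Perm (Fin 3 → V)).injective h1) i
  have huniq : ∀ g h : transGroup V,
      (g : Equiv.Perm (Fin 3 → V)) t = (h : Equiv.Perm (Fin 3 → V)) t → g = h := by
    intro g h e
    refine Subtype.ext (Equiv.ext fun x => ?_)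
    obtain ⟨ψ, rfl⟩ := hext x
    rw [hG, hG, e]
  let S : Subgroup (transGroup V) :=
    { carrier := {g | ∃ a : A, (g : Equiv.Perm (Fin 3 → V)) t = (ρ a : V → V) ∘ t}
      one_mem' := ⟨1, funext fun i => by rw [map_one]; rfl⟩
      mul_mem' := fun {g h} ⟨a, ha⟩ ⟨b, hb⟩ => ⟨b * a, by
        rw [Subgroup.coe_mul, Equiv.Perm.mul_apply, hb, hG, ha]
        funext i
        exact (apply_mul ρ b a (t i)).symm⟩
      inv_mem' := fun {g} ⟨a, ha⟩ => ⟨a⁻¹, by
        apply (g : Equiv.Perm (Fin 3 → V)).injective
        rw [Subgroup.coe_inv, perm_apply_inv, hG, ha]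
        funext i
        exact (apply_inv_apply ρ a (t i)).symm⟩ }
  choose α hα using fun g : S => g.2
  have hα' : ∀ a b : A, (ρ a : V → V) ∘ t = (ρ b : V → V) ∘ t → ρ a = ρ b := by
    intro a b e
    have h1 := hfree (b⁻¹ * a) fun i => by
      rw [apply_mul, show ρ a (t i) = ρ b (t i) from congrFun e i, apply_inv_apply]
    rw [map_mul] at h1
    have h2 : ρ b * (ρ b⁻¹ * ρ a) = ρ b * 1 := by rw [h1]
    rwa [← mul_assoc, ← map_mul, mul_inv_cancel, map_one, one_mul, mul_one] at h2
  let Φ : S →* ρ.toHomUnits.range :=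
    MonoidHom.mk' (fun g => ⟨ρ.toHomUnits (α g)⁻¹, _, rfl⟩) fun g h => by
      apply Subtype.ext
      apply Units.ext
      show ρ (α (g * h))⁻¹ = ρ (α g)⁻¹ * ρ (α h)⁻¹
      have e1 : ρ (α (g * h)) = ρ (α h * α g) := by
        refine hα' _ _ ?_
        rw [← hα (g * h), Subgroup.coe_mul, Subgroup.coe_mul, Equiv.Perm.mul_apply, hα h, hG, hα g]
        funext i
        exact (apply_mul ρ (α h) (α g) (t i)).symm
      have e2 : ρ (α (g * h))⁻¹ * ρ (α (g * h)) = 1 := by rw [← map_mul, inv_mul_cancel, map_one]
      have e3 : ρ (α h * α g) * ρ (α h * α g)⁻¹ = 1 := by rw [← map_mul, mul_inv_cancel, map_one]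
      rw [← map_mul, ← mul_inv_rev]
      calc ρ (α (g * h))⁻¹ = ρ (α (g * h))⁻¹ * (ρ (α h * α g) * ρ (α h * α g)⁻¹) := by
            rw [e3, mul_one]
        _ = _ := by rw [← mul_assoc, ← e1, e2, one_mul]
  have hΦ : Function.Injective Φ := by
    intro g h e
    have e1 : ρ.toHomUnits (α g)⁻¹ = ρ.toHomUnits (α h)⁻¹ := congrArg Subtype.val e
    rw [map_inv, map_inv, inv_inj] at e1
    refine Subtype.ext (huniq _ _ ?_)
    rw [hα g, hα h, show ρ (α g) = ρ (α h) from congrArg Units.val e1]
  haveI : Group.IsSolvable ρ.toHomUnits.range :=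
    Group.isSolvable_of_surjective ρ.toHomUnits.rangeRestrict_surjective
  haveI : Group.IsSolvable S := Group.isSolvable_of_isSolvable_injective hΦ
  have hidx : 5 ≤ S.index := by
    by_contra hlt
    haveI := CfsgLib.InvCharSmall.isSolvable_perm_of_card_le_four
      (α := transGroup V ⧸ S) (by rw [Subgroup.index] at hlt; omega)
    refine not_isSolvable_transGroup hV
      (Group.isSolvable_of_ker_le_range S.subtype (MulAction.toPermHom _ (transGroup V ⧸ S)) ?_)
    rw [Subgroup.range_subtype, ← Subgroup.normalCore_eq_ker]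
    exact S.normalCore_le
  cases nonempty_fintype (transGroup V ⧸ S)
  rw [Subgroup.index, Nat.card_eq_fintype_card, ← Fintype.card_fin 5] at hidx
  obtain ⟨emb⟩ := Function.Embedding.nonempty_of_card_le hidx
  refine ⟨fun j => ((emb j).out : Equiv.Perm (Fin 3 → V)) t, fun j => hfreeg _,
    fun i j a ha => emb.injective ?_⟩
  rw [← Quotient.out_eq (emb i), ← Quotient.out_eq (emb j)]
  refine Quotient.sound (QuotientGroup.leftRel_apply.2 ⟨a, ?_⟩)
  apply ((emb i).out : Equiv.Perm (Fin 3 → V)).injective
  rw [Subgroup.coe_mul, Subgroup.coe_inv, Equiv.Perm.mul_apply, perm_apply_inv, hG]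
  exact (funext ha).symm

/-- Five orbits of free triples. -/
theorem exists_fiveFree [Finite A] [Group.IsSolvable A] [Finite V] [Nontrivial V] (hirr : Irr ρ)
    (hb : Based3 ρ) : FiveFree ρ := by
  classical
  obtain ⟨t, ht⟩ := hb
  -- a prime exponent
  obtain ⟨r, hr, hrd⟩ := Nat.exists_prime_and_dvd (Finite.one_lt_card (α := V)).ne'
  haveI := Fact.mk hr
  have hexp : ∀ v : V, r • v = 0 := by
    let K : AddSubgroup V := (nsmulAddMonoidHom r : V →+ V).ker
    have hK : Inv ρ K := fun a v hv => by
      simp only [K, AddMonoidHom.mem_ker, nsmulAddMonoidHom_apply] at hv ⊢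
      rw [← map_nsmul, hv, map_zero]
    rcases hirr K hK with h | h
    · obtain ⟨v, hv⟩ := exists_prime_addOrderOf_dvd_card' r hrd
      have : v ∈ K := by
        simp only [K, AddMonoidHom.mem_ker, nsmulAddMonoidHom_apply]
        rw [← hv]; exact addOrderOf_nsmul_eq_zero v
      rw [h, AddSubgroup.mem_bot] at this
      rw [this, addOrderOf_zero] at hv
      exact absurd hv hr.one_lt.ne
    · intro v
      have : v ∈ K := by rw [h]; trivial
      exact this
  letI : Module (ZMod r) V := AddCommGroup.zmodModule (n := r) hexp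
  haveI : Module.Finite (ZMod r) V := Module.Finite.of_finite
  have hzero : ∀ (a : A) (v : V), ρ a v = 0 → v = 0 := fun a v h =>
    apply_injective ρ a (h.trans (map_zero _).symm)
  -- fixing a spanning family
  have hspan : ∀ {ι : Type} (s : ι → V), (∀ v : V, v ∈ Submodule.span (ZMod r) (Set.range s)) →
      ∀ p : Fin 3 → V, (∀ i, s i ∈ Set.range p) → Free3 ρ p := by
    intro ι s hs p hp a ha
    ext v
    show ρ a v = v
    have := hs v
    induction this using Submodule.span_induction with
    | mem x hx =>
      obtain ⟨i, rfl⟩ := hx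
      obtain ⟨k, hk⟩ := hp i
      rw [← hk, ha k]
    | zero => exact map_zero _
    | add x y _ _ hx hy => rw [map_add, hx, hy]
    | smul c x _ hx => rw [ZMod.map_smul (ρ a : V →+ V), hx]
  rcases Nat.lt_or_ge (Module.finrank (ZMod r) V) 3 with hd | hd
  · obtain ⟨d, hdd⟩ : ∃ d, Module.finrank (ZMod r) V = d := ⟨_, rfl⟩
    have hd0 : 0 < Module.finrank (ZMod r) V := Module.finrank_pos
    let bs := Module.finBasisOfFinrankEq (ZMod r) V hdd
    have hsp : ∀ v : V, v ∈ Submodule.span (ZMod r) (Set.range bs) := fun v => by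
      rw [bs.span_eq]; trivial
    rcases (show d = 1 ∨ d = 2 by omega) with rfl | rfl
    · set a₀ := bs 0 with ha₀
      have hne : a₀ ≠ 0 := bs.ne_zero 0
      refine ⟨![![a₀, 0, 0], ![0, a₀, 0], ![0, 0, a₀], ![a₀, a₀, 0], ![a₀, 0, a₀]],
        fun j => hspan bs hsp _ fun i => ?_, fun i j a h => ?_⟩
      · rw [Subsingleton.elim i 0]
        fin_cases j <;> simp [← ha₀]
      · have h0 := h 0
        have h1 := h 1
        have h2 := h 2
        fin_cases i <;> fin_cases j <;> simp at h0 h1 h2 ⊢ <;>
          first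
            | exact hne h0 | exact hne h0.symm | exact hne (hzero a _ h0)
            | exact hne h1 | exact hne h1.symm | exact hne (hzero a _ h1)
            | exact hne h2 | exact hne h2.symm | exact hne (hzero a _ h2)
    · set a₀ := bs 0 with ha₀
      set b₀ := bs 1 with hb₀
      have hne : a₀ ≠ 0 := bs.ne_zero 0
      have hne' : b₀ ≠ 0 := bs.ne_zero 1
      have hab : a₀ ≠ b₀ := fun e => absurd (bs.injective e) (by decide)
      refine ⟨![![a₀, b₀, 0], ![a₀, 0, b₀], ![0, a₀, b₀], ![a₀, a₀, b₀], ![a₀, b₀, a₀]],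
        fun j => hspan bs hsp _ fun i => ?_, fun i j a h => ?_⟩
      · fin_cases i <;> fin_cases j <;> simp [← ha₀, ← hb₀]
      · have h0 := h 0
        have h1 := h 1
        have h2 := h 2
        have hinj : ∀ x y z : V, ρ a x = z → ρ a y = z → x = y := fun x y z e e' =>
          apply_injective ρ a (e.trans e'.symm)
        have hfun : ∀ x y z : V, ρ a x = y → ρ a x = z → y = z := fun x y z e e' => e.symm.trans e'
        fin_cases i <;> fin_cases j <;> simp at h0 h1 h2 ⊢ <;>
          first
            | exact hne h0.symm | exact hne (hzero a _ h0)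
            | exact hne h1.symm | exact hne (hzero a _ h1)
            | exact hne' h1.symm | exact hne' (hzero a _ h1)
            | exact hne h2.symm | exact hne (hzero a _ h2)
            | exact hne' h2.symm | exact hne' (hzero a _ h2)
            | exact hab (hinj _ _ _ h0 h1) | exact hab (hinj _ _ _ h0 h2)
            | exact hab (hfun _ _ _ h0 h1) | exact hab (hfun _ _ _ h0 h2)
  · -- an independent free triple
    set W := Submodule.span (ZMod r) (Set.range t) with hW
    have hdW : Module.finrank (ZMod r) W ≤ 3 := by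
      have := finrank_range_le_card (R := ZMod r) t
      rwa [Fintype.card_fin] at this
    let bW := Module.finBasis (ZMod r) W
    have hgrow : ∀ m, Module.finrank (ZMod r) W ≤ m → m ≤ 3 →
        ∃ f : Fin m → V, LinearIndependent (ZMod r) f ∧
          W ≤ Submodule.span (ZMod r) (Set.range f) := by
      intro m hm
      induction m, hm using Nat.le_induction with
      | base =>
        intro _
        refine ⟨fun i => (bW i : V), bW.linearIndependent.map' W.subtype W.ker_subtype, fun v hv => ?_⟩
        have h1 : (⟨v, hv⟩ : W) ∈ Submodule.span (ZMod r) (Set.range bW) := by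
          rw [bW.span_eq]; trivial
        have h2 := Submodule.mem_map_of_mem (f := W.subtype) h1
        rw [Submodule.map_span, ← Set.range_comp] at h2
        exact h2
      | succ m _ ih =>
        intro hm3
        obtain ⟨f, hf, hfW⟩ := ih (by omega)
        obtain ⟨x, hx⟩ := exists_linearIndependent_snoc_of_lt_finrank hf (by omega)
        refine ⟨_, hx, hfW.trans (Submodule.span_mono ?_)⟩
        rintro _ ⟨i, rfl⟩
        exact ⟨i.castSucc, Fin.snoc_castSucc ..⟩
    obtain ⟨f, hf, hfW⟩ := hgrow 3 hdW le_rfl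
    refine fiveFree_of_indep hf fun a ha => ht a fun i => ?_
    have h1 : t i ∈ Submodule.span (ZMod r) (Set.range f) :=
      hfW (Submodule.subset_span ⟨i, rfl⟩)
    revert h1
    generalize t i = y
    intro h1
    induction h1 using Submodule.span_induction with
    | mem x hx => obtain ⟨k, rfl⟩ := hx; exact ha k
    | zero => exact map_zero _
    | add x y _ _ hx hy => rw [map_add, hx, hy]
    | smul c x _ hx => rw [ZMod.map_smul (ρ a : V →+ V), hx]

end CfsgLib.TripleBase
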