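import Cfsg.Agent.Lib.TripleBase.Colour
import Cfsg.Agent.Lib.TripleBase.Variants

/-!
Colourings of primitive solvable permutation groups and imprimitive linear actions.
-/

set_option autoImplicit false
set_option linter.style.haveILetI false

open Subgroup

namespace CfsgLib.TripleBase

open CfsgLib.OddBase

universe u

variable {G : Type u} [Group G]

/-- The core-free case. -/
theorem exists_colouring_corefree [Finite G] [Group.IsSolvable G] {M : Subgroup G} (hM : IsCoatom M)
    (hcore : M.normalCore = ⊥) :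
    ∃ col : G ⧸ M → Fin 5, ∀ a : G, (∀ x, col (a • x) = col x) → a = 1 := by
  haveI : Nontrivial G := by
    by_contra h
    rw [not_nontrivial_iff_subsingleton] at h
    exact hM.1 (Subsingleton.elim _ _)
  obtain ⟨R, hR⟩ := CfsgLib.MinNormal.exists_isMinNormal (G := G)
  haveI := hR.1
  obtain ⟨r, hr, ⟨hab, -⟩, -, k, -, hRc⟩ := hR.elementaryAbelian_of_solvable
  have hRM : ¬ R ≤ M := fun h =>
    hR.2.1 (le_bot_iff.1 (hcore ▸ (Subgroup.normal_le_normalCore.2 h : R ≤ M.normalCore)))
  have hcompl := hR.isComplement'_of_isCoatom hab hM hRM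
  have hidx : M.index = Nat.card R := hcompl.index_eq_card
  letI : CommGroup R := { (inferInstance : Group R) with mul_comm := fun a b => hab.is_comm.comm a b }
  let φ : M →* MulAut R := MulAut.conjNormal.comp M.subtype
  have hφval : ∀ (m : M) (x : R), ((φ m x : R) : G) = m * x * (m : G)⁻¹ := fun m x =>
    MulAut.conjNormal_apply _ _
  let pt : R → G ⧸ M := fun x => ((x : G) : G ⧸ M)
  have hpt : Function.Bijective pt := by
    have hinj : Function.Injective pt := by
      intro x y h
      have hm : (x : G)⁻¹ * y ∈ M := QuotientGroup.eq.1 h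
      have : (x : G)⁻¹ * y ∈ (⊥ : Subgroup G) :=
        hcompl.disjoint.le_bot ⟨R.mul_mem (R.inv_mem x.2) y.2, hm⟩
      exact Subtype.ext (inv_mul_eq_one.1 (mem_bot.1 this))
    exact (Nat.bijective_iff_injective_and_card pt).2 ⟨hinj, by rw [← hidx]; rfl⟩
  have hmpt : ∀ (m : M) (x : R), (m : G) • pt x = pt (φ m x) := by
    intro m x
    show (((m : G) * x : G) : G ⧸ M) = ((φ m x : G) : G ⧸ M)
    rw [hφval, QuotientGroup.eq]
    convert M.inv_mem m.2 using 1
    group
  let e := Equiv.ofBijective pt hpt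
  obtain ⟨c, hc0, -, hc⟩ := exists_colour (Additive R)
  refine ⟨fun x => c (Additive.ofMul (e.symm x)), fun a ha => ?_⟩
  have hback : ∀ x : R, e.symm (pt x) = x := e.symm_apply_apply
  have haM : a ∈ M := by
    have h1 := ha (pt 1)
    simp only [hback, ofMul_one] at h1
    rw [(hc0 0).2 rfl, hc0] at h1
    have h2 : e.symm (a • pt 1) = 1 := congrArg Additive.toMul h1
    rw [Equiv.symm_apply_eq] at h2
    have h3 : a • ((1 : G) : G ⧸ M) = ((1 : G) : G ⧸ M) := h2
    rw [MulAction.Quotient.smul_coe, QuotientGroup.eq] at h3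
    simpa [smul_eq_mul] using h3
  have hfix := hc (φ ⟨a, haM⟩).toMonoidHom.toAdditive (φ ⟨a, haM⟩).injective fun x => by
    have h1 := ha (pt x.toMul)
    rw [show a • pt x.toMul = pt (φ ⟨a, haM⟩ x.toMul) from hmpt ⟨a, haM⟩ _] at h1
    simp only [hback] at h1
    exact h1
  have h1 : a ∈ centralizer (R : Set G) ⊓ M := by
    refine ⟨fun x hx => ?_, haM⟩
    have := congrArg (fun z : Additive R => ((z.toMul : R) : G)) (hfix (Additive.ofMul ⟨x, hx⟩))
    exact (mul_inv_eq_iff_eq_mul.1 ((hφval ⟨a, haM⟩ ⟨x, hx⟩).symm.trans this)).symm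
  rwa [CoreFreeMaximal.centralizer_inf_eq_bot hM hcore hR.2.1, mem_bot] at h1

/-- The cosets of a maximal subgroup of a solvable group have a colouring with five colours
preserved only by elements fixing every coset. -/
theorem exists_colouring [Finite G] [Group.IsSolvable G] {M : Subgroup G} (hM : IsCoatom M) :
    ∃ col : G ⧸ M → Fin 5, ∀ a : G, (∀ x, col (a • x) = col x) → ∀ x : G ⧸ M, a • x = x := by
  let K := M.normalCore
  let f : G →* G ⧸ K := QuotientGroup.mk' K
  have hf : Function.Surjective f := QuotientGroup.mk'_surjective K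
  have hker : f.ker ≤ M := by rw [QuotientGroup.ker_mk']; exact M.normalCore_le
  have hcomap : (M.map f).comap f = M := Subgroup.comap_map_eq_self hker
  have hM' : IsCoatom (M.map f) := by
    refine ⟨fun e => hM.1 (hcomap.symm.trans ((congrArg (Subgroup.comap f) e).trans
      (Subgroup.comap_top f))), fun Y hY => ?_⟩
    have h := hM.2 (Y.comap f) (lt_of_le_of_ne (hcomap.ge.trans (comap_mono hY.le))
      fun e => hY.ne ((congrArg (Subgroup.map f) e).trans (map_comap_eq_self_of_surjective hf Y)))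
    rw [← map_comap_eq_self_of_surjective hf Y, h, map_top_of_surjective f hf]
  have hcore : (M.map f).normalCore = ⊥ := by
    rw [eq_bot_iff]
    intro y hy
    obtain ⟨g, rfl⟩ := hf y
    have hle : ((M.map f).normalCore).comap f ≤ M.normalCore :=
      Subgroup.normal_le_normalCore.2 (le_trans (comap_mono (normalCore_le _)) hcomap.le)
    rw [mem_bot, ← MonoidHom.mem_ker, QuotientGroup.ker_mk']
    exact hle hy
  obtain ⟨col, hcol⟩ := exists_colouring_corefree hM' hcore
  let π : G ⧸ M → (G ⧸ K) ⧸ (M.map f) := Quotient.map' f fun a b h => by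
    rw [QuotientGroup.leftRel_apply] at h ⊢
    exact ⟨_, h, by rw [map_mul, map_inv]⟩
  have hπ : ∀ (a : G) (x : G ⧸ M), π (a • x) = f a • π x := by
    intro a x
    induction x using QuotientGroup.induction_on with
    | _ g =>
      show ((f (a * g) : G ⧸ K) : (G ⧸ K) ⧸ (M.map f)) = ((f a * f g : G ⧸ K) : _)
      rw [map_mul]
  have hπs : Function.Surjective π := by
    intro y
    induction y using QuotientGroup.induction_on with
    | _ z =>
      obtain ⟨g, rfl⟩ := hf z
      exact ⟨(g : G ⧸ M), rfl⟩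
  refine ⟨col ∘ π, fun a ha x => ?_⟩
  have h1 : f a = 1 := hcol (f a) fun y => by
    obtain ⟨x, rfl⟩ := hπs y
    rw [← hπ]
    exact ha x
  rw [← MonoidHom.mem_ker, QuotientGroup.ker_mk'] at h1
  induction x using QuotientGroup.induction_on with
  | _ g =>
    rw [MulAction.Quotient.smul_coe, QuotientGroup.eq]
    have h2 := inv_mem (h1 g⁻¹)
    simpa [mul_assoc] using h2

variable {A : Type u} [Group A] [Finite A] {V : Type u} [AddCommGroup V] [Finite V]

/-- An irreducible action with blocks indexed by a maximal subgroup. -/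
theorem based3_of_maximal [Group.IsSolvable A]
    {ρ : A →* AddMonoid.End V} (hirr : Irr ρ) (hsmall : SmallBased3.{u} (Nat.card V))
    {M : Subgroup A} (hM : IsCoatom M) [Fintype (A ⧸ M)] (B : Blocks ρ (A ⧸ M)) : Based3 ρ := by
  classical
  set x₀ : A ⧸ M := ((1 : A) : A ⧸ M) with hx₀
  set V₀ : AddSubgroup V := (B.π x₀ : V →+ V).range with hV₀
  have hfix : ∀ h : M, (h : A) • x₀ = x₀ := by
    intro h
    rw [hx₀, MulAction.Quotient.smul_coe, QuotientGroup.eq]
    simpa [smul_eq_mul] using M.inv_mem h.2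
  have hinv : Inv (ρ.comp M.subtype) V₀ := by
    rintro h _ ⟨v, rfl⟩
    refine ⟨ρ h v, ?_⟩
    have := B.apply_equiv (h : A) x₀ v
    rw [hfix] at this
    exact this.symm
  have hmem₀ : ∀ v ∈ V₀, B.π x₀ v = v := by
    rintro _ ⟨v, rfl⟩
    exact DFunLike.congr_fun (B.idem x₀) v
  have hzero : ∀ v ∈ V₀, ∀ y, y ≠ x₀ → B.π y v = 0 := by
    rintro _ ⟨v, rfl⟩ y hy
    exact DFunLike.congr_fun (B.orth y x₀ hy) v
  -- representatives
  let t : A ⧸ M → A := fun x => x.out
  have ht : ∀ x, t x • x₀ = x := by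
    intro x
    rw [hx₀, MulAction.Quotient.smul_coe, smul_eq_mul, mul_one]
    exact Quotient.out_eq x
  -- irreducible on the block
  have hirr₀ : Irr (res (ρ.comp M.subtype) V₀ hinv) := by
    intro U hU
    let T : AddSubgroup V :=
      { carrier := {v | ∀ x, ∃ u ∈ U, (u : V) = ρ (t x)⁻¹ (B.π x v)}
        zero_mem' := fun x => ⟨0, U.zero_mem, by simp⟩
        add_mem' := fun {v w} hv hw x => by
          obtain ⟨a, ha, ha'⟩ := hv x
          obtain ⟨b, hb, hb'⟩ := hw x
          exact ⟨a + b, U.add_mem ha hb, by rw [map_add, map_add, AddSubgroup.coe_add, ha', hb']⟩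
        neg_mem' := fun {v} hv x => by
          obtain ⟨a, ha, ha'⟩ := hv x
          exact ⟨-a, U.neg_mem ha, by rw [map_neg, map_neg, AddSubgroup.coe_neg, ha']⟩ }
    have hT : Inv ρ T := by
      intro a v hv x
      obtain ⟨u, hu, hu'⟩ := hv (a⁻¹ • x)
      have hh : (t x)⁻¹ * a * t (a⁻¹ • x) ∈ M := by
        have h1 : ((t x)⁻¹ * a * t (a⁻¹ • x)) • x₀ = x₀ := by
          rw [mul_smul, mul_smul, ht, smul_inv_smul, inv_smul_eq_iff, ht]
        rw [hx₀, MulAction.Quotient.smul_coe, QuotientGroup.eq, smul_eq_mul, mul_one, mul_one] at h1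
        exact inv_mem_iff.1 h1
      refine ⟨res (ρ.comp M.subtype) V₀ hinv ⟨_, hh⟩ u, hU _ u hu, ?_⟩
      show ρ ((t x)⁻¹ * a * t (a⁻¹ • x)) (u : V) = _
      have e := B.apply_equiv a (a⁻¹ • x) v
      rw [smul_inv_smul] at e
      rw [apply_mul, hu', apply_apply_inv, apply_mul, e]
    rcases hirr T hT with h | h
    · left
      rw [eq_bot_iff]
      intro u hu
      have hmem : (u : V) ∈ T := by
        intro x
        rcases eq_or_ne x x₀ with rfl | hx
        · have hh : t x₀ ∈ M := by
            have h1 := ht x₀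
            rw [hx₀, MulAction.Quotient.smul_coe, QuotientGroup.eq, smul_eq_mul, mul_one, mul_one] at h1
            exact inv_mem_iff.1 h1
          refine ⟨res (ρ.comp M.subtype) V₀ hinv ⟨_, M.inv_mem hh⟩ u, hU _ u hu, ?_⟩
          rw [hmem₀ _ u.2]; rfl
        · exact ⟨0, U.zero_mem, by rw [hzero _ u.2 x hx]; simp⟩
      rw [h, AddSubgroup.mem_bot] at hmem
      exact AddSubgroup.mem_bot.2 (Subtype.ext hmem)
    · right
      rw [eq_top_iff]
      intro v _
      have hh : (t x₀)⁻¹ ∈ M := by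
        have h1 := ht x₀
        rw [hx₀, MulAction.Quotient.smul_coe, QuotientGroup.eq, smul_eq_mul, mul_one, mul_one] at h1
        exact h1
      have hv : ρ (t x₀) (v : V) ∈ T := by rw [h]; trivial
      obtain ⟨u, hu, hu'⟩ := hv x₀
      have hin : ρ (t x₀) (v : V) ∈ V₀ := hinv ⟨_, inv_mem_iff.1 hh⟩ _ v.2
      rw [hmem₀ _ hin, apply_inv_apply] at hu'
      have : u = v := Subtype.ext hu'
      rw [← this]; exact hu
  have hVne : Nontrivial V₀ := by
    rw [AddSubgroup.nontrivial_iff_ne_bot]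
    intro h
    refine B.ne_zero x₀ (AddMonoidHom.ext fun v => ?_)
    have h1 : B.π x₀ v ∈ V₀ := ⟨v, rfl⟩
    rw [h, AddSubgroup.mem_bot] at h1
    exact h1
  have hidx2 : ∃ y : A ⧸ M, y ≠ x₀ := by
    by_contra hcon
    push Not at hcon
    refine hM.1 (eq_top_iff.2 fun a _ => ?_)
    have := hcon (a : A ⧸ M)
    rw [hx₀, QuotientGroup.eq, mul_one] at this
    exact inv_mem_iff.1 this
  have hlt0 : Nat.card V₀ < Nat.card V := by
    refine lt_of_le_of_ne (Nat.card_le_card_of_injective _ Subtype.val_injective) fun e => ?_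
    obtain ⟨y, hy⟩ := hidx2
    refine B.ne_zero y (AddMonoidHom.ext fun v => ?_)
    have hv : B.π y v ∈ V₀ := (AddSubgroup.eq_top_of_card_eq V₀ e).symm ▸ trivial
    have := hzero _ hv y hy
    rw [show B.π y (B.π y v) = B.π y v from DFunLike.congr_fun (B.idem y) v] at this
    exact this
  obtain ⟨p, hp, hpq⟩ := exists_fiveFree (ρ := res (ρ.comp M.subtype) V₀ hinv) hirr₀
    (hsmall M V₀ _ hlt0 hirr₀.cr)
  obtain ⟨col, hcol⟩ := exists_colouring hM
  let c : A ⧸ M → Fin 3 → V₀ := fun x => p (col x)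
  have hproj : ∀ (c : A ⧸ M → V₀) (y : A ⧸ M),
      B.π y (∑ x, ρ (t x) (c x : V)) = ρ (t y) (c y : V) := by
    intro c y
    rw [map_sum, Finset.sum_eq_single y]
    · have := B.apply_equiv (t y) x₀ (c y : V)
      rw [ht, hmem₀ _ (c y).2] at this
      exact this.symm
    · intro x _ hx
      have := B.apply_equiv (t x) x₀ (c x : V)
      rw [ht, hmem₀ _ (c x).2] at this
      rw [this]
      exact DFunLike.congr_fun (B.orth y x hx.symm) _
    · intro h; exact absurd (Finset.mem_univ y) h
  refine ⟨fun i => ∑ x, ρ (t x) (c x i : V), fun a ha => ?_⟩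
  -- the element of `M` carrying colour to colour
  have hh : ∀ x, (t (a • x))⁻¹ * a * t x ∈ M := fun x => by
    have h1 : ((t (a • x))⁻¹ * a * t x) • x₀ = x₀ := by
      rw [mul_smul, mul_smul, ht, inv_smul_eq_iff, ht]
    rw [hx₀, MulAction.Quotient.smul_coe, QuotientGroup.eq, smul_eq_mul, mul_one, mul_one] at h1
    exact inv_mem_iff.1 h1
  have hstep : ∀ (i : Fin 3) x, res (ρ.comp M.subtype) V₀ hinv ⟨_, hh x⟩ (c x i) = c (a • x) i := by
    intro i x
    apply Subtype.ext
    have e := B.apply_equiv a x (∑ x, ρ (t x) (c x i : V))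
    rw [ha i, hproj (fun x => c x i), hproj (fun x => c x i)] at e
    show ρ ((t (a • x))⁻¹ * a * t x) _ = _
    rw [apply_mul, apply_mul]
    show ρ _ (ρ a (ρ (t x) ((c x i : V₀) : V))) = _
    rw [e, apply_inv_apply]
  have hax := hcol a fun x => (hpq _ _ _ fun i => hstep i x).symm
  refine AddMonoidHom.ext fun v => ?_
  show ρ a v = v
  conv_lhs => rw [← B.sum_apply v, map_sum]
  conv_rhs => rw [← B.sum_apply v]
  refine Finset.sum_congr rfl fun x _ => ?_
  have hw : ρ (t x)⁻¹ (B.π x v) ∈ V₀ := by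
    refine ⟨ρ (t x)⁻¹ v, ?_⟩
    have := B.apply_equiv (t x)⁻¹ x v
    rw [show (t x)⁻¹ • x = x₀ from inv_smul_eq_iff.2 (ht x).symm] at this
    exact this.symm
  have h3 : res (ρ.comp M.subtype) V₀ hinv ⟨_, hh x⟩ = 1 :=
    hp (col x) _ fun i => (hstep i x).trans (by rw [hax])
  have h4 : ρ ((t (a • x))⁻¹ * a * t x) (ρ (t x)⁻¹ (B.π x v)) = ρ (t x)⁻¹ (B.π x v) :=
    congrArg Subtype.val (DFunLike.congr_fun h3 (⟨_, hw⟩ : V₀))
  rw [hax, apply_mul, apply_apply_inv, apply_mul] at h4
  exact apply_injective ρ _ h4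

/-- An irreducible action with a nontrivial decomposition. -/
theorem based3_of_blocks [Group.IsSolvable A]
    {ρ : A →* AddMonoid.End V} (hirr : Irr ρ) (hsmall : SmallBased3.{u} (Nat.card V))
    {ι : Type u} [Fintype ι] [MulAction A ι] (B : Blocks ρ ι) (hcard : ∃ i j : ι, i ≠ j) :
    Based3 ρ := by
  classical
  obtain ⟨i, j, hij⟩ := hcard
  have hne : MulAction.stabilizer A i ≠ ⊤ := fun e => by
    obtain ⟨a, ha⟩ := B.transitive hirr i j
    have : a ∈ MulAction.stabilizer A i := by rw [e]; exact mem_top a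
    exact hij ((MulAction.mem_stabilizer_iff.1 this).symm.trans ha)
  obtain ⟨M, hM, hle⟩ := (eq_top_or_exists_le_coatom (MulAction.stabilizer A i)).resolve_left hne
  haveI : Fintype (A ⧸ M) := Fintype.ofFinite _
  exact based3_of_maximal hirr hsmall hM (B.coarsen hirr i M hle)

end CfsgLib.TripleBase
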