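import Mathlib.GroupTheory.FiniteAbelian.Basic
import Mathlib.Data.ZMod.Basic

/-!
Five colours on a finite abelian group which only the identity among injective endomorphisms
preserves.
-/

set_option autoImplicit false
set_option linter.style.haveILetI false

open scoped DirectSum

namespace CfsgLib.TripleBase

universe u

/-- A colouring of a finite abelian group with five colours, zero being the only element of colour
`0`, such that an injective endomorphism preserving the colours is the identity. -/
theorem exists_colour (X : Type u) [AddCommGroup X] [Finite X] :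
    ∃ c : X → Fin 5, (∀ x, c x = 0 ↔ x = 0) ∧ ((∃ x : X, x ≠ 0) → ∃ b, ∀ x, c x = 1 ↔ x = b) ∧
      ∀ f : X →+ X, Function.Injective f → (∀ x, c (f x) = c x) → ∀ x, f x = x := by
  classical
  obtain ⟨ι, hι, n, hn, ⟨e⟩⟩ := AddCommGroup.equiv_directSum_zmod_of_finite' X
  haveI : ∀ i, Fact (1 < n i) := fun i => ⟨hn i⟩
  let m := Fintype.card ι
  let w : Fin m ≃ ι := (Fintype.equivFin ι).symm
  -- the generators
  let b : Fin m → X := fun i => e.symm (DirectSum.of _ (w i) 1)
  -- coordinates
  have co : ∀ i j, e (b i) (w j) = if i = j then 1 else 0 := by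
    intro i j
    simp only [b, AddEquiv.apply_symm_apply]
    by_cases h : i = j
    · subst h; rw [if_pos rfl, DirectSum.of_eq_same]
    · rw [if_neg h, DirectSum.of_eq_of_ne]
      exact fun e1 => h (w.injective e1).symm
  have hne : ∀ i, b i ≠ 0 := fun i h => by
    have := co i i
    rw [h, map_zero, if_pos rfl] at this
    exact one_ne_zero (this.symm.trans rfl)
  have hinj : Function.Injective b := by
    intro i j h
    by_contra hij
    have := co i i
    rw [h, co, if_neg (Ne.symm hij), if_pos rfl] at this
    exact zero_ne_one this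
  -- sums of two generators
  have hsum : ∀ i k j j', i ≠ k → b i + b k = b j + b j' →
      (i = j ∧ k = j') ∨ (i = j' ∧ k = j) := by
    intro i k j j' hik h
    have key : ∀ l, (if i = l then (1 : ZMod (n (w l))) else 0) + (if k = l then 1 else 0) =
        (if j = l then 1 else 0) + (if j' = l then 1 else 0) := fun l => by
      have := congrArg (fun x => e x (w l)) h
      simpa [map_add, DirectSum.add_apply, co] using this
    have h1 : j = i ∨ j' = i := by
      by_contra hc
      push Not at hc
      have := key i
      rw [if_pos rfl, if_neg (Ne.symm hik), if_neg hc.1, if_neg hc.2, add_zero, add_zero] at this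
      exact one_ne_zero this
    rcases h1 with rfl | rfl
    · exact Or.inl ⟨rfl, hinj (add_left_cancel h)⟩
    · refine Or.inr ⟨rfl, hinj ?_⟩
      rw [add_comm (b j)] at h
      exact add_left_cancel h
  have hsum1 : ∀ i k l, i ≠ k → b i + b k ≠ b l := by
    intro i k l hik h
    have h1 := congrArg (fun x => e x (w i)) h
    have h2 := congrArg (fun x => e x (w k)) h
    simp only [map_add, DirectSum.add_apply, co, if_pos, if_neg hik, if_neg (Ne.symm hik), add_zero,
      zero_add] at h1 h2
    by_cases hil : l = i
    · subst hil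
      rw [if_neg hik] at h2
      exact one_ne_zero h2
    · rw [if_neg hil] at h1
      exact one_ne_zero h1
  have hsum0 : ∀ i k, i ≠ k → b i + b k ≠ 0 := by
    intro i k hik h
    have h1 := congrArg (fun x => e x (w i)) h
    simp only [map_add, map_zero, DirectSum.add_apply, DirectSum.zero_apply, co, if_pos,
      if_neg (Ne.symm hik), add_zero] at h1
    exact one_ne_zero h1
  let C1 : Set X := {x | ∃ i : Fin m, (i : ℕ) = 0 ∧ x = b i}
  let C2 : Set X := {x | ∃ i : Fin m, (i : ℕ) ≠ 0 ∧ x = b i}
  let C3 : Set X := {x | ∃ i j : Fin m, (j : ℕ) = i + 1 ∧ x = b i + b j}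
  let c : X → Fin 5 := fun x =>
    if x = 0 then 0 else if x ∈ C1 then 1 else if x ∈ C2 then 2 else if x ∈ C3 then 3 else 4
  have hC2 : ∀ i : Fin m, (i : ℕ) ≠ 0 → c (b i) = 2 := by
    intro i hi
    have h1 : b i ∉ C1 := fun ⟨j, hj, e1⟩ => hi (by rw [hinj e1]; exact hj)
    simp only [c]
    rw [if_neg (hne i), if_neg h1, if_pos ⟨i, hi, rfl⟩]
  have hC3 : ∀ i j : Fin m, (j : ℕ) = i + 1 → c (b i + b j) = 3 := by
    intro i j hj
    have hij : i ≠ j := fun e1 => by subst e1; omega
    have h1 : b i + b j ∉ C1 := fun ⟨l, _, e1⟩ => hsum1 i j l hij e1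
    have h2 : b i + b j ∉ C2 := fun ⟨l, _, e1⟩ => hsum1 i j l hij e1
    simp only [c]
    rw [if_neg (hsum0 i j hij), if_neg h1, if_neg h2, if_pos ⟨i, j, hj, rfl⟩]
  have h1iff : ∀ x, c x = 1 ↔ x ∈ C1 := by
    intro x
    simp only [c]
    constructor
    · intro h
      by_contra hx
      rw [if_neg hx] at h
      split_ifs at h <;> exact absurd h (by decide)
    · intro hx
      have h0 : x ≠ 0 := by
        obtain ⟨i, -, rfl⟩ := hx
        exact hne i
      rw [if_neg h0, if_pos hx]
  have h2imp : ∀ x, c x = 2 → x ∈ C2 := by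
    intro x h
    simp only [c] at h
    by_contra hx
    rw [if_neg hx] at h
    split_ifs at h <;> exact absurd h (by decide)
  have h3imp : ∀ x, c x = 3 → x ∈ C3 := by
    intro x h
    simp only [c] at h
    by_contra hx
    rw [if_neg hx] at h
    split_ifs at h <;> exact absurd h (by decide)
  have hgen : ∀ (g : X →+ X), (∀ i, g (b i) = b i) → ∀ x, g x = x := by
    intro g hg x
    obtain ⟨y, rfl⟩ := e.symm.surjective x
    induction y using DirectSum.induction_on with
    | zero => rw [map_zero, map_zero]
    | of i z =>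
      obtain ⟨j, rfl⟩ := w.surjective i
      have hz : DirectSum.of (fun i => ZMod (n i)) (w j) z = z.val • DirectSum.of _ (w j) 1 := by
        rw [← map_nsmul, nsmul_one, ZMod.natCast_zmod_val]
      rw [hz, map_nsmul, map_nsmul]
      exact congrArg _ (hg j)
    | add y z hy hz => rw [map_add, map_add, hy, hz]
  refine ⟨c, fun x => ?_, ?_, fun f hf hc => hgen f ?_⟩
  · constructor
    · intro h
      by_contra hx
      simp only [c, if_neg hx] at h
      split_ifs at h <;> exact absurd h (by decide)
    · rintro rfl; exact if_pos rfl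
  · rintro ⟨x, hx⟩
    have hm : 0 < m := by
      by_contra h0
      refine hx ?_
      have := hgen 0 (fun i => absurd i.2 (by omega)) x
      exact this.symm
    refine ⟨b ⟨0, hm⟩, fun y => ?_⟩
    rw [h1iff]
    constructor
    · rintro ⟨i, hi, rfl⟩
      exact congrArg b (Fin.ext hi)
    · rintro rfl; exact ⟨_, rfl, rfl⟩
  · -- every generator is fixed
    suffices H : ∀ (k : ℕ) (i : Fin m), (i : ℕ) = k → f (b i) = b i from fun i => H _ i rfl
    intro k
    induction k using Nat.strong_induction_on with
    | _ k IH =>
    intro i hi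
    rcases Nat.eq_zero_or_pos k with rfl | hk
    · have h1 : f (b i) ∈ C1 := (h1iff _).1 (by rw [hc, (h1iff _).2 ⟨i, hi, rfl⟩])
      obtain ⟨j, hj, e1⟩ := h1
      rw [e1]
      exact congrArg b (Fin.ext (by omega))
    let i' : Fin m := ⟨k - 1, by omega⟩
    have hi' : f (b i') = b i' := IH (k - 1) (by omega) i' rfl
    obtain ⟨a, ha0, ha⟩ := h2imp _ ((hc _).trans (hC2 i (by omega)))
    have h3 : f (b i' + b i) ∈ C3 :=
      h3imp _ ((hc _).trans (hC3 i' i (by show (i : ℕ) = k - 1 + 1; omega)))
    obtain ⟨j, j', hj, e3⟩ := h3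
    rw [map_add, hi', ha] at e3
    have hne' : i' ≠ a := fun e1 => by
      have e2 : i' = i := hinj (hf (hi'.trans ((congrArg b e1).trans ha.symm)))
      have := congrArg Fin.val e2
      simp only [i'] at this
      omega
    rcases hsum i' a j j' hne' e3 with ⟨e1, e2⟩ | ⟨e1, e2⟩
    · rw [ha]
      refine congrArg b (Fin.ext ?_)
      have := congrArg Fin.val e1
      have := congrArg Fin.val e2
      simp only [i'] at *
      omega
    · exfalso
      have := congrArg Fin.val e1
      have := congrArg Fin.val e2
      simp only [i'] at *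
      have ha' : f (b a) = b a := IH a (by omega) a rfl
      have e4 : a = i := hinj (hf (ha'.trans ha.symm))
      have := congrArg Fin.val e4
      omega

end CfsgLib.TripleBase
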