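import Cfsg.Agent.Lib.TripleBase.Basic
import Cfsg.Agent.Lib.TripleBase.Colour
import Cfsg.Agent.Lib.TripleBase.Classify

/-!
Three vectors with trivial common stabiliser when the dimension is small against the layer.
-/

set_option autoImplicit false
set_option linter.style.haveILetI false
set_option linter.unusedSectionVars false

open Subgroup
open scoped commutatorElement

namespace CfsgLib.TripleBase

open CfsgLib.OddBase

universe u

variable {A : Type u} [Group A] [Finite A] {K : Type u} [Field K] [Finite K] {V : Type u}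
  [AddCommGroup V] [Module K V] [Finite V] {ρ : A →* AddMonoid.End V} {U E L : Subgroup A}
  {χ : A → K} {V₀ : Submodule K V} {v : V}

/-- The vectors fixed by a linear operator form a subspace. -/
theorem span_le_fixed {a : A} (hlin : ∀ (c : K) (w : V), ρ a (c • w) = c • ρ a w) {S : Set V}
    (hS : ∀ w ∈ S, ρ a w = w) : ∀ w ∈ Submodule.span K S, ρ a w = w := by
  intro w hw
  induction hw using Submodule.span_induction with
  | mem x hx => exact hS x hx
  | zero => exact map_zero _
  | add x y _ _ hx hy => rw [map_add, hx, hy]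
  | smul c x _ hx => rw [hlin, hx]

namespace Eigen

/-- Assemble three vectors from the slots at the identity block and at one further block. -/
theorem based3_of_slots (F : Frame K ρ U E) (h : Eigen ρ U E L χ V₀ v)
    (hne : ¬ E ≤ centralizer (L : Set A)) {s₂ s₃ z z' : V} (hs₂ : s₂ ∈ V₀) (hs₃ : s₃ ∈ V₀)
    (hz : z ∈ V₀) (hz' : z' ∈ V₀) (hz0 : z ≠ 0) (hz0' : z' ≠ 0) (hzz : z ≠ z')
    (key : ∀ a : A, ∀ p ∈ E ⊓ centralizer (L : Set A), ρ a v = v → ρ a s₂ = s₂ → ρ a s₃ = s₃ →
      ρ p (ρ a z) = z → ρ p (ρ a z') = z' → ∀ w ∈ V₀, ρ a w = w) :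
    Based3 ρ := by
  classical
  set P := E ⊓ centralizer (L : Set A) with hP
  have hUP : U ≤ P := fun x hx => h.le_cent (h.le hx)
  haveI hn : (P.subgroupOf E).Normal := by
    refine ⟨fun x hx y => ?_⟩
    rw [mem_subgroupOf] at hx ⊢
    have h2 : (y : A) * x * (y : A)⁻¹ = ⁅(y : A), (x : A)⁆ * x := by
      rw [commutatorElement_def]; group
    show (y : A) * x * (y : A)⁻¹ ∈ P
    rw [h2]
    exact P.mul_mem (hUP (F.layer.comm y y.2 x x.2)) hx
  let instX : CommGroup (E ⧸ P.subgroupOf E) :=
    { (inferInstance : Group (E ⧸ P.subgroupOf E)) with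
      mul_comm := fun a b => by
        induction a using QuotientGroup.induction_on with
        | _ x =>
        induction b using QuotientGroup.induction_on with
        | _ y =>
        rw [← QuotientGroup.mk_mul, ← QuotientGroup.mk_mul, QuotientGroup.eq, mem_subgroupOf]
        have := hUP (F.layer.comm (y : A)⁻¹ (E.inv_mem y.2) (x : A)⁻¹ (E.inv_mem x.2))
        show ((x : A) * y)⁻¹ * ((y : A) * x) ∈ P
        convert this using 1
        rw [commutatorElement_def]
        group }
  haveI : Fintype (E ⧸ P.subgroupOf E) := Fintype.ofFinite _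
  obtain ⟨c, hc0, hc1, hc⟩ := exists_colour (Additive (E ⧸ P.subgroupOf E))
  obtain ⟨b, hb⟩ := hc1 (by
    obtain ⟨x, hx, hxP⟩ := SetLike.not_le_iff_exists.1 hne
    exact ⟨Additive.ofMul ((⟨x, hx⟩ : E) : E ⧸ P.subgroupOf E), fun e => hxP
      (mem_subgroupOf.1 ((QuotientGroup.eq_one_iff _).1 (congrArg Additive.toMul e))).2⟩)
  let col : E ⧸ P.subgroupOf E → Fin 5 := fun g => c (Additive.ofMul g)
  -- representatives, with the identity at the identity
  let r : E ⧸ P.subgroupOf E → E := fun g => if g = 1 then 1 else g.out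
  have hr : ∀ g, ((r g : E) : E ⧸ P.subgroupOf E) = g := fun g => by
    by_cases hg : g = 1
    · subst hg; simp [r]
    · simp only [r, if_neg hg]; exact Quotient.out_eq g
  have hr1 : (r 1 : A) = 1 := by simp [r]
  -- the components
  let v₀ : V₀ := ⟨v, h.v_mem⟩
  have hv₀ : v₀ ≠ 0 := fun e => h.v_ne (congrArg Subtype.val e)
  let S : Fin 3 → Fin 5 → V₀ :=
    ![![v₀, 0, 0, 0, 0], ![⟨s₂, hs₂⟩, ⟨z, hz⟩, v₀, 0, v₀], ![⟨s₃, hs₃⟩, ⟨z', hz'⟩, 0, v₀, v₀]]
  let vec : (E ⧸ P.subgroupOf E → V₀) → V := fun s => ∑ g, ρ (r g : A) (s g : V)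
  have hblock : ∀ (s : E ⧸ P.subgroupOf E → V₀) g,
      blockOp ρ L χ (r g : A) (vec s) = (Nat.card L : K) • ρ (r g : A) (s g : V) := by
    intro s g
    have hadd : ∀ t : Finset (E ⧸ P.subgroupOf E), blockOp ρ L χ (r g : A) (∑ g' ∈ t, ρ (r g' : A) (s g' : V)) =
        ∑ g' ∈ t, blockOp ρ L χ (r g : A) (ρ (r g' : A) (s g' : V)) := by
      intro t
      induction t using Finset.induction_on with
      | empty => rw [Finset.sum_empty, Finset.sum_empty, blockOp_zero]
      | insert x t hx ih => rw [Finset.sum_insert hx, Finset.sum_insert hx, blockOp_add, ih]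
    rw [hadd, Finset.sum_eq_single g]
    · refine (h.blockOp_block F (r g).2 (r g).2 (s g).2).1 ?_
      rw [inv_mul_cancel]; exact one_mem _
    · intro g' _ hg'
      refine (h.blockOp_block F (r g).2 (r g').2 (s g').2).2 fun hmem => hg' ?_
      rw [← hr g', ← hr g]
      exact (QuotientGroup.eq.2 (mem_subgroupOf.2 hmem)).symm
    · intro hg; exact absurd (Finset.mem_univ g) hg
  refine ⟨fun i => vec fun g => S i (col g), fun a ha => ?_⟩
  have hcol1 : col 1 = 0 := (hc0 _).2 rfl
  have hav : ρ a v = v := by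
    have hv1 : vec (fun g => S 0 (col g)) = v := by
      show ∑ g, ρ (r g : A) ((S 0 (col g) : V₀) : V) = v
      rw [Finset.sum_eq_single (1 : E ⧸ P.subgroupOf E)]
      · rw [hcol1, hr1, map_one]; rfl
      · intro g _ hg
        have h0 : col g ≠ 0 := fun e => hg (congrArg Additive.toMul ((hc0 _).1 e))
        have h1 : (S 0 (col g) : V) = 0 := by
          rcases (by decide : ∀ j : Fin 5, j ≠ 0 → j = 1 ∨ j = 2 ∨ j = 3 ∨ j = 4) _ h0 with
            e | e | e | e <;> rw [e] <;> rfl
        rw [h1, map_zero]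
      · intro hg; exact absurd (Finset.mem_univ _) hg
    have := ha 0
    simp only [hv1] at this
    exact this
  -- conjugation by `a` on the blocks
  haveI := F.layer.normal
  let τ : E ⧸ P.subgroupOf E →* E ⧸ P.subgroupOf E :=
    QuotientGroup.map _ _ (MulAut.conjNormal a).toMonoidHom fun x hx => by
      rw [mem_subgroupOf] at hx
      show ((MulAut.conjNormal a x : E) : A) ∈ P
      rw [MulAut.conjNormal_apply]
      exact h.conj_mem_cent F hav hx
  have hτ : ∀ x : E, τ (x : E ⧸ P.subgroupOf E) = ((MulAut.conjNormal a x : E) : E ⧸ P.subgroupOf E) :=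
    fun x => rfl
  have hτinj : Function.Injective τ := by
    rw [injective_iff_map_eq_one]
    intro g
    induction g using QuotientGroup.induction_on with
    | _ x =>
      intro e
      rw [hτ, QuotientGroup.eq_one_iff, mem_subgroupOf, MulAut.conjNormal_apply] at e
      rw [QuotientGroup.eq_one_iff, mem_subgroupOf]
      have := h.conj_mem_cent F (fix_inv hav) e
      rw [show a⁻¹ * (a * (x : A) * a⁻¹) * a⁻¹⁻¹ = (x : A) by group] at this
      exact this
  let p : E ⧸ P.subgroupOf E → A := fun g => (r (τ g) : A)⁻¹ * (a * (r g : A) * a⁻¹)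
  have hp : ∀ g, p g ∈ P := by
    intro g
    have e : ((r (τ g) : E) : E ⧸ P.subgroupOf E) = ((MulAut.conjNormal a (r g) : E) : E ⧸ P.subgroupOf E) := by
      rw [← hτ, hr, hr]
    have := mem_subgroupOf.1 (QuotientGroup.eq.1 e)
    rwa [Subgroup.coe_mul, Subgroup.coe_inv, MulAut.conjNormal_apply] at this
  have hmove : ∀ g (u : V), ρ a (ρ (r g : A) u) = ρ (r (τ g) : A) (ρ (p g) (ρ a u)) := by
    intro g u
    rw [← apply_mul, ← apply_mul, ← apply_mul]
    congr 2
    simp only [p]; group
  have hsmem : ∀ g (u : V₀), ρ (p g) (ρ a (u : V)) ∈ V₀ := fun g u =>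
    h.apply_mem F (hp g) (h.apply_mem_of_fix F hav u.2)
  let τe : (E ⧸ P.subgroupOf E) ≃ (E ⧸ P.subgroupOf E) :=
    Equiv.ofBijective τ (Finite.injective_iff_bijective.1 hτinj)
  have hstep : ∀ i g, ρ (p g) (ρ a (S i (col g) : V)) = S i (col (τ g)) := by
    intro i g
    have h1 : vec (fun g => ⟨ρ (p (τe.symm g)) (ρ a (S i (col (τe.symm g)) : V)), hsmem _ _⟩) =
        vec (fun g => S i (col g)) := by
      refine Eq.trans ?_ (ha i)
      show _ = ρ a (∑ g, ρ (r g : A) ((S i (col g) : V₀) : V))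
      rw [map_sum]
      refine (Fintype.sum_equiv τe _ _ fun g => ?_).symm
      rw [hmove g]
      show _ = ρ (r (τ g) : A) (ρ (p (τe.symm (τe g))) (ρ a (S i (col (τe.symm (τe g))) : V)))
      rw [Equiv.symm_apply_apply]
    have h2 := congrArg (blockOp ρ L χ (r (τ g) : A)) h1
    rw [hblock, hblock] at h2
    have h3 := apply_injective ρ _ (smul_right_injective V (h.card_ne_zero F) h2)
    simp only [show τe.symm (τ g) = g from τe.symm_apply_apply g] at h3
    exact h3
  -- the colours are preserved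
  have hcol : ∀ g, col (τ g) = col g := by
    intro g
    by_cases hg : g = 1
    · rw [hg, map_one]
    have hτg : τ g ≠ 1 := fun e => hg (hτinj (e.trans (map_one τ).symm))
    have h0 : ∀ g, g ≠ 1 → col g ≠ 0 := fun g hg e => hg (congrArg Additive.toMul ((hc0 _).1 e))
    have hinj : Function.Injective fun u : V => ρ (p g) (ρ a u) :=
      (apply_injective ρ (p g)).comp (apply_injective ρ a)
    have pat : ∀ i, (S i (col g) : V) = 0 ↔ (S i (col (τ g)) : V) = 0 := fun i => by
      rw [← hstep i g]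
      constructor
      · intro e; rw [e, map_zero, map_zero]
      · intro e; exact hinj (by simp only [map_zero]; exact e)
    have pat' : (S 1 (col g) : V) = S 2 (col g) ↔ (S 1 (col (τ g)) : V) = S 2 (col (τ g)) := by
      rw [← hstep 1 g, ← hstep 2 g]
      exact ⟨fun e => by rw [e], fun e => hinj e⟩
    have p1 := pat 1
    have p2 := pat 2
    have hv := h.v_ne
    rcases (by decide : ∀ j : Fin 5, j ≠ 0 → j = 1 ∨ j = 2 ∨ j = 3 ∨ j = 4) _ (h0 g hg) with
        e | e | e | e <;>
      rcases (by decide : ∀ j : Fin 5, j ≠ 0 → j = 1 ∨ j = 2 ∨ j = 3 ∨ j = 4) _ (h0 _ hτg) with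
        e' | e' | e' | e' <;>
      rw [e, e'] at p1 p2 pat' <;> rw [e, e'] <;>
      simp [S, v₀, hv, hz0, hz0', hzz] at p1 p2 pat' ⊢
  have hτid : ∀ g, τ g = g := fun g =>
    congrArg Additive.toMul (hc τ.toAdditive hτinj (fun x => hcol x.toMul) (Additive.ofMul g))
  have hstep' : ∀ i g, ρ (p g) (ρ a (S i (col g) : V)) = S i (col g) := fun i g => by
    have := hstep i g
    rwa [hτid] at this
  -- `a` fixes the identity block
  have hp1 : p 1 = 1 := by simp [p, hr1]
  have h21 : ρ a s₂ = s₂ := by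
    have := hstep' 1 1
    rw [hcol1, hp1, map_one] at this
    exact this
  have h31 : ρ a s₃ = s₃ := by
    have := hstep' 2 1
    rw [hcol1, hp1, map_one] at this
    exact this
  have hb1 : col b.toMul = 1 := (hb _).2 rfl
  have hV₀ : ∀ w ∈ V₀, ρ a w = w := by
    have e1 := hstep' 1 b.toMul
    have e2 := hstep' 2 b.toMul
    rw [hb1] at e1 e2
    exact key a _ (hp _) hav h21 h31 e1 e2
  have hpfix : ∀ g, ∀ w ∈ V₀, ρ (p g) w = w := by
    intro g w hw
    by_cases hg : g = 1
    · rw [hg, hp1, map_one]; rfl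
    have h0 : col g ≠ 0 := fun e => hg (congrArg Additive.toMul ((hc0 _).1 e))
    obtain ⟨i, hi⟩ : ∃ i, (S i (col g) : V) ≠ 0 := by
      rcases (by decide : ∀ j : Fin 5, j ≠ 0 → j = 1 ∨ j = 2 ∨ j = 3 ∨ j = 4) _ h0 with
        e | e | e | e <;> rw [e]
      · exact ⟨1, hz0⟩
      · exact ⟨1, h.v_ne⟩
      · exact ⟨2, h.v_ne⟩
      · exact ⟨1, h.v_ne⟩
    refine h.apply_eq (hp g).1 (S i (col g)).2 hi ?_ hw
    have := hstep' i g
    rwa [hV₀ _ (S i (col g)).2] at this
  -- and every block
  refine AddMonoidHom.ext fun w => ?_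
  show ρ a w = w
  have hfix : ∀ g, ρ a (blockOp ρ L χ (r g : A) w) = blockOp ρ L χ (r g : A) w := by
    intro g
    obtain ⟨u, hu, e⟩ := h.blockOp_mem F (r g).2 w
    rw [← e, hmove g, hτid, hV₀ u hu, hpfix g u hu]
  have hsum := h.sum_blockOp F r hr w
  rw [Nat.cast_smul_eq_nsmul] at hsum
  have h2 : ρ a (Nat.card L • w) = Nat.card L • w := by
    rw [← hsum, map_sum]
    exact Finset.sum_congr rfl fun g _ => hfix g
  rw [map_nsmul, ← Nat.cast_smul_eq_nsmul K, ← Nat.cast_smul_eq_nsmul K] at h2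
  exact smul_right_injective V (h.card_ne_zero F) h2

/-- The blocks are independent. -/
theorem mul_finrank_le (F : Frame K ρ U E) (h : Eigen ρ U E L χ V₀ v) :
    (E ⊓ centralizer (L : Set A)).relIndex E * Module.finrank K V₀ ≤ Module.finrank K V := by
  classical
  haveI : Module.Finite K V := Module.Finite.of_finite
  haveI : Fintype (E ⧸ (E ⊓ centralizer (L : Set A)).subgroupOf E) := Fintype.ofFinite _
  let r : E ⧸ (E ⊓ centralizer (L : Set A)).subgroupOf E → E := fun g => g.out
  let f : ((E ⧸ (E ⊓ centralizer (L : Set A)).subgroupOf E) → V₀) →ₗ[K] V :=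
    { toFun := fun s => ∑ g, ρ (r g : A) (s g : V)
      map_add' := fun s t => by
        simp only [Pi.add_apply, Submodule.coe_add, map_add, Finset.sum_add_distrib]
      map_smul' := fun k s => by
        rw [RingHom.id_apply, Finset.smul_sum]
        refine Finset.sum_congr rfl fun g _ => ?_
        rw [Pi.smul_apply, Submodule.coe_smul, F.lin _ (r g).2] }
  have hf : Function.Injective f := by
    rw [injective_iff_map_eq_zero]
    intro s hs
    funext g
    have hadd : ∀ t : Finset (E ⧸ (E ⊓ centralizer (L : Set A)).subgroupOf E), blockOp ρ L χ (r g : A) (∑ g' ∈ t, ρ (r g' : A) (s g' : V)) =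
        ∑ g' ∈ t, blockOp ρ L χ (r g : A) (ρ (r g' : A) (s g' : V)) := by
      intro t
      induction t using Finset.induction_on with
      | empty => rw [Finset.sum_empty, Finset.sum_empty, blockOp_zero]
      | insert x t hx ih => rw [Finset.sum_insert hx, Finset.sum_insert hx, blockOp_add, ih]
    have e := congrArg (blockOp ρ L χ (r g : A)) (show ∑ g', ρ (r g' : A) (s g' : V) = 0 from hs)
    rw [hadd, blockOp_zero, Finset.sum_eq_single g] at e
    · rw [(h.blockOp_block F (r g).2 (r g).2 (s g).2).1 (by rw [inv_mul_cancel]; exact one_mem _),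
        smul_eq_zero] at e
      exact Subtype.ext (apply_injective ρ _
        ((e.resolve_left (h.card_ne_zero F)).trans (map_zero _).symm))
    · intro g' _ hg'
      refine (h.blockOp_block F (r g).2 (r g').2 (s g').2).2 fun hmem => hg' ?_
      rw [← Quotient.out_eq g', ← Quotient.out_eq g]
      exact (QuotientGroup.eq.2 (mem_subgroupOf.2 hmem)).symm
    · intro hg; exact absurd (Finset.mem_univ g) hg
  have := LinearMap.finrank_le_finrank_of_injective hf
  rw [Module.finrank_pi_fintype, Finset.sum_const, Finset.card_univ, smul_eq_mul,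
    ← Nat.card_eq_fintype_card] at this
  exact this

/-- An element fixing `v` and `ρ y v` commutes with `y` on the eigenspace. -/
theorem apply_comm (F : Frame K ρ U E) (h : Eigen ρ U E L χ V₀ v) {y : A}
    (hy : y ∈ E ⊓ centralizer (L : Set A)) {a : A} (hav : ρ a v = v) (hay : ρ a (ρ y v) = ρ y v)
    {w : V} (hw : w ∈ V₀) : ρ a (ρ y w) = ρ y (ρ a w) := by
  have hq : y⁻¹ * (a * y * a⁻¹) ∈ E ⊓ centralizer (L : Set A) :=
    Subgroup.mul_mem _ (Subgroup.inv_mem _ hy) (h.conj_mem_cent F hav hy)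
  have h1 : ρ (y⁻¹ * (a * y * a⁻¹)) v = v := by
    rw [apply_mul, apply_mul, apply_mul, fix_inv hav, hay, apply_inv_apply]
  have h2 := h.apply_eq hq.1 h.v_mem h.v_ne h1 (h.apply_mem_of_fix F hav hw)
  rw [apply_mul, apply_mul, apply_mul, apply_inv_apply] at h2
  have h3 := congrArg (ρ y) h2
  rwa [apply_apply_inv] at h3

/-- A subspace of the eigenspace stable under `y` grows by two dimensions. -/
theorem grow (F : Frame K ρ U E) (h : Eigen ρ U E L χ V₀ v) {y : A}
    (hy : y ∈ E ⊓ centralizer (L : Set A)) (hy2 : y ^ 2 ∈ L) (hns : ∀ μ : K, μ ^ 2 ≠ χ (y ^ 2))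
    {S : Submodule K V} (hS : S ≤ V₀) (hSy : ∀ w ∈ S, ρ y w ∈ S) {u : V} (hu : u ∈ V₀) (huS : u ∉ S) :
    S ⊔ Submodule.span K {u, ρ y u} ≤ V₀ ∧
      (∀ w ∈ S ⊔ Submodule.span K {u, ρ y u}, ρ y w ∈ S ⊔ Submodule.span K {u, ρ y u}) ∧
      Module.finrank K S + 2 ≤ Module.finrank K (S ⊔ Submodule.span K {u, ρ y u} : Submodule K V) := by
  haveI : Module.Finite K V := Module.Finite.of_finite
  have hyy : ∀ w ∈ V₀, ρ y (ρ y w) = χ (y ^ 2) • w := fun w hw => by
    rw [← apply_mul, ← pow_two, h.apply' _ hy2 w hw]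
  have hu1 : u ∈ S ⊔ Submodule.span K {u} := Submodule.mem_sup_right (Submodule.mem_span_singleton_self u)
  have hlt1 : S < S ⊔ Submodule.span K {u} :=
    lt_of_le_of_ne le_sup_left fun e => huS (e ▸ hu1)
  have hyu : ρ y u ∉ S ⊔ Submodule.span K {u} := by
    intro hmem
    obtain ⟨s, hs, t, ht, e⟩ := Submodule.mem_sup.1 hmem
    obtain ⟨c, rfl⟩ := Submodule.mem_span_singleton.1 ht
    have e2 := congrArg (ρ y) e
    rw [map_add, F.lin y hy.1, hyy u hu, ← e, smul_add, smul_smul, ← add_assoc] at e2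
    have hne : χ (y ^ 2) - c * c ≠ 0 := sub_ne_zero.2 fun e3 => hns c (by rw [pow_two, e3])
    have : (χ (y ^ 2) - c * c) • u ∈ S := by
      rw [sub_smul, ← e2, add_sub_cancel_right]
      exact S.add_mem (hSy s hs) (S.smul_mem c hs)
    exact huS ((S.smul_mem_iff hne).1 this)
  have hlt2 : S ⊔ Submodule.span K {u} < S ⊔ Submodule.span K {u, ρ y u} :=
    lt_of_le_of_ne (sup_le_sup_left (Submodule.span_mono (by simp)) _) fun e =>
      hyu (e ▸ Submodule.mem_sup_right (Submodule.subset_span (by simp)))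
  refine ⟨sup_le hS (Submodule.span_le.2 ?_), ?_, ?_⟩
  · rintro w (rfl | rfl)
    · exact hu
    · exact h.apply_mem F hy hu
  · intro w hw
    obtain ⟨s, hs, t, ht, rfl⟩ := Submodule.mem_sup.1 hw
    rw [map_add]
    refine Submodule.add_mem _ (Submodule.mem_sup_left (hSy s hs)) ?_
    obtain ⟨c, d, rfl⟩ := Submodule.mem_span_pair.1 ht
    rw [map_add, F.lin y hy.1, F.lin y hy.1, hyy u hu]
    exact Submodule.mem_sup_right (Submodule.mem_span_pair.2 ⟨d * χ (y ^ 2), c, by
      rw [smul_smul, add_comm]⟩)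
  · have := Submodule.finrank_lt_finrank_of_lt hlt1
    have := Submodule.finrank_lt_finrank_of_lt hlt2
    omega

end Eigen

/-- Dimension below four times the layer. -/
theorem based3_of_small_dim [Nontrivial V] (F : Frame K ρ U E) {e : ℕ} (he : U.relIndex E = e ^ 2)
    (he2 : 2 ≤ e) (hl : Module.finrank K V < 4 * e)
    (hsmall : e = 2 → Module.finrank K V ≤ 5 ∧ (4 ≤ Module.finrank K V → ¬ IsSquare (-1 : K) →
      ∀ (a : A) (c : K) (w : V), ρ a (c • w) = c • ρ a w)) : Based3 ρ := by
  classical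
  haveI : Module.Finite K V := Module.Finite.of_finite
  obtain ⟨L, χ, V₀, v, h⟩ := exists_eigen F
  set P := E ⊓ centralizer (L : Set A) with hP
  set m := U.relIndex L with hm
  have hLP : L ≤ P := h.le_cent
  have hEP : P.relIndex E = m := h.relIndex_cent F
  have hidx : e ^ 2 = m * L.relIndex P * m := by
    rw [← he, ← relIndex_mul_relIndex U P E (fun x hx => hLP (h.le hx)) inf_le_left, hEP,
      ← relIndex_mul_relIndex U L P h.le hLP]
  have hdim := h.mul_finrank_le F
  rw [← hP, hEP] at hdim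
  obtain ⟨k, hk0, hk1, hkgen⟩ := F.gen
  by_cases hPL : P ≤ L
  · -- the eigenspace has dimension at most three
    have hf : L.relIndex P = 1 := relIndex_eq_one.2 hPL
    rw [hf, mul_one, ← pow_two] at hidx
    have hem : e = m := Nat.pow_left_injective (by norm_num) hidx
    have hne : ¬ E ≤ centralizer (L : Set A) := fun hle => by
      have : P.relIndex E = 1 := relIndex_eq_one.2 (le_inf le_rfl hle)
      omega
    have hd0 : Module.finrank K V₀ ≤ 3 := by
      by_contra h4
      have : m * 4 ≤ m * Module.finrank K V₀ := Nat.mul_le_mul_left _ (by omega)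
      omega
    -- two further vectors spanning the eigenspace together with `v`
    let bs := Module.finBasis K V₀
    have hv0 : (⟨v, h.v_mem⟩ : V₀) ≠ 0 := fun e => h.v_ne (congrArg Subtype.val e)
    obtain ⟨s₂, hs₂, s₃, hs₃, hsp⟩ : ∃ s₂ ∈ V₀, ∃ s₃ ∈ V₀,
        ∀ w ∈ V₀, w ∈ Submodule.span K ({v, s₂, s₃} : Set V) := by
      have hex : ∀ S : Submodule K V, ¬ V₀ ≤ S →
          ∃ s ∈ V₀, Module.finrank K S < Module.finrank K (S ⊔ Submodule.span K {s} : Submodule K V) := by
        intro S hnle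
        obtain ⟨s, hs, hsS⟩ := SetLike.not_le_iff_exists.1 hnle
        refine ⟨s, hs, Submodule.finrank_lt_finrank_of_lt (lt_of_le_of_ne le_sup_left fun e =>
          hsS (e ▸ Submodule.mem_sup_right (Submodule.mem_span_singleton_self s)))⟩
      set S₁ : Submodule K V := Submodule.span K {v} with hS₁
      have hS₁le : S₁ ≤ V₀ := Submodule.span_le.2 (by simpa using h.v_mem)
      by_cases h1 : V₀ ≤ S₁
      · exact ⟨v, h.v_mem, v, h.v_mem, fun w hw => Submodule.span_mono (by simp) (h1 hw)⟩
      obtain ⟨s₂, hs₂, hlt⟩ := hex S₁ h1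
      have hS₂le : S₁ ⊔ Submodule.span K {s₂} ≤ V₀ := sup_le hS₁le (Submodule.span_le.2 (by simpa using hs₂))
      by_cases h2 : V₀ ≤ S₁ ⊔ Submodule.span K {s₂}
      · refine ⟨s₂, hs₂, v, h.v_mem, fun w hw => ?_⟩
        have := h2 hw
        rw [hS₁, ← Submodule.span_union] at this
        exact Submodule.span_mono (by simp) this
      obtain ⟨s₃, hs₃, hlt'⟩ := hex _ h2
      refine ⟨s₂, hs₂, s₃, hs₃, fun w hw => ?_⟩
      have hle : S₁ ⊔ Submodule.span K {s₂} ⊔ Submodule.span K {s₃} ≤ V₀ :=
        sup_le hS₂le (Submodule.span_le.2 (by simpa using hs₃))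
      have h1' : 1 ≤ Module.finrank K S₁ := by rw [hS₁, finrank_span_singleton h.v_ne]
      have heq := Submodule.eq_of_le_of_finrank_le hle (by omega)
      rw [← heq, hS₁, ← Submodule.span_union, ← Submodule.span_union] at hw
      exact Submodule.span_mono (by simp [Set.insert_subset_iff]) hw
    refine h.based3_of_slots F hne hs₂ hs₃ h.v_mem (V₀.smul_mem k h.v_mem) h.v_ne
      (smul_ne_zero hk0 h.v_ne) (fun e => hk1 (smul_left_injective K h.v_ne
        (show k • v = (1 : K) • v by rw [one_smul, ← e]))) ?_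
    intro a p hp hav ha2 ha3 hpz hpz' w hw
    rw [hav] at hpz
    have hpw := h.apply_eq hp.1 h.v_mem h.v_ne hpz
      (h.apply_mem_of_fix F hav (V₀.smul_mem k h.v_mem))
    rw [hpw] at hpz'
    have hlin := hkgen a v h.v_ne (by rw [hpz', hav])
    refine span_le_fixed hlin ?_ w (hsp w hw)
    rintro x (rfl | rfl | rfl) <;> assumption
  · -- the centraliser of `L` is a four group modulo `L`
    obtain ⟨y, hy, hyL, hy2, hsq, hns, R, hR⟩ := h.four_classes F hPL
    have hf : L.relIndex P ≤ 4 := by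
      let Φ : Fin 4 → P ⧸ L.subgroupOf P := fun i =>
        if hi : R i ∈ P then ((⟨R i, hi⟩ : P) : P ⧸ L.subgroupOf P) else (((1 : P) : P) : P ⧸ L.subgroupOf P)
      have hΦ : Function.Surjective Φ := by
        intro g
        induction g using QuotientGroup.induction_on with
        | _ x =>
          obtain ⟨i, hi⟩ := hR x x.2
          have hiP : R i ∈ P := by
            have := P.mul_mem x.2 (P.inv_mem (hLP hi))
            simpa [mul_assoc] using this
          refine ⟨i, ?_⟩
          simp only [Φ, dif_pos hiP]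
          exact QuotientGroup.eq.2 (mem_subgroupOf.2 hi)
      have := Nat.card_le_card_of_surjective Φ hΦ
      rwa [Nat.card_fin] at this
    have he2m : e ≤ 2 * m := by
      rw [← Nat.pow_le_pow_iff_left (show 2 ≠ 0 by norm_num), hidx]
      calc m * L.relIndex P * m ≤ m * 4 * m := by
            exact Nat.mul_le_mul_right _ (Nat.mul_le_mul_left _ hf)
        _ = _ := by ring
    -- the stable subspaces
    have hy0 : ∀ w ∈ (⊥ : Submodule K V), ρ y w ∈ (⊥ : Submodule K V) := fun w hw => by
      rw [(Submodule.mem_bot K).1 hw, map_zero]; exact Submodule.zero_mem _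
    obtain ⟨hW₁, hW₁y, hd₁⟩ := h.grow F hy hy2 hns (S := ⊥) bot_le hy0 h.v_mem
      (fun e => h.v_ne ((Submodule.mem_bot K).1 e))
    rw [finrank_bot, zero_add] at hd₁
    set W₁ : Submodule K V := ⊥ ⊔ Submodule.span K {v, ρ y v} with hW₁def
    have hW₁fix : ∀ a : A, (∀ (c : K) (w : V), ρ a (c • w) = c • ρ a w) → ρ a v = v →
        ρ a (ρ y v) = ρ y v → ∀ w ∈ W₁, ρ a w = w := by
      intro a hlin h1 h2 w hw
      rw [hW₁def, bot_sup_eq] at hw
      refine span_le_fixed hlin ?_ w hw
      rintro x (rfl | rfl) <;> assumption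
    have hpair : ∀ (a : A) (S : Submodule K V) (u : V), u ∈ V₀ →
        (∀ (c : K) (w : V), ρ a (c • w) = c • ρ a w) → ρ a v = v → ρ a (ρ y v) = ρ y v →
        (∀ w ∈ S, ρ a w = w) → ρ a u = u →
        ∀ w ∈ S ⊔ Submodule.span K {u, ρ y u}, ρ a w = w := by
      intro a S u hu hlin h1 h2 hS h3 w hw
      obtain ⟨s, hs, t, ht, rfl⟩ := Submodule.mem_sup.1 hw
      rw [map_add, hS s hs, span_le_fixed hlin ?_ t ht]
      rintro x (rfl | rfl)
      · exact h3
      · rw [h.apply_comm F hy h1 h2 hu, h3]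
    by_cases hEc : E ≤ centralizer (L : Set A)
    · -- the whole space is the eigenspace
      have hm1 : m = 1 := by rw [← hEP]; exact relIndex_eq_one.2 (le_inf le_rfl hEc)
      have hLU : L ≤ U := relIndex_eq_one.1 hm1
      have htop : ∀ w : V, w ∈ V₀ := fun w => h.mem w fun x hx => h.apply_U F (hLU hx) w
      have he : e = 2 := by omega
      obtain ⟨hl5, hlin4⟩ := hsmall he
      by_cases h1 : ∀ w : V, w ∈ W₁
      · refine ⟨![v, ρ y v, k • v], fun a ha => AddMonoidHom.ext fun w => ?_⟩
        have e1 : ρ a v = v := ha 0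
        have e2 : ρ a (ρ y v) = ρ y v := ha 1
        have e3 : ρ a (k • v) = k • v := ha 2
        exact hW₁fix a (hkgen a v h.v_ne (by rw [e3, e1])) e1 e2 w (h1 w)
      · push Not at h1
        obtain ⟨u, hu⟩ := h1
        obtain ⟨hW₂, hW₂y, hd₂⟩ := h.grow F hy hy2 hns hW₁ hW₁y (htop u) hu
        have hfull : ∀ w : V, w ∈ W₁ ⊔ Submodule.span K {u, ρ y u} := by
          by_contra h2
          push Not at h2
          obtain ⟨u', hu'⟩ := h2
          obtain ⟨-, -, hd₃⟩ := h.grow F hy hy2 hns hW₂ hW₂y (htop u') hu'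
          have := Submodule.finrank_le (R := K) (W₁ ⊔ Submodule.span K {u, ρ y u} ⊔ Submodule.span K {u', ρ y u'})
          omega
        have hl4 : 4 ≤ Module.finrank K V := by
          have := Submodule.finrank_le (R := K) (W₁ ⊔ Submodule.span K {u, ρ y u})
          omega
        refine ⟨![v, ρ y v, u], fun a ha => AddMonoidHom.ext fun w => ?_⟩
        have e1 : ρ a v = v := ha 0
        have e2 : ρ a (ρ y v) = ρ y v := ha 1
        have e3 : ρ a u = u := ha 2
        exact hpair a _ u (htop u) (hlin4 hl4 hsq a) e1 e2 (hW₁fix a (hlin4 hl4 hsq a) e1 e2) e3 w (hfull w)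
    · have hd0 : Module.finrank K V₀ ≤ 7 := by
        by_contra h8
        have : m * 8 ≤ m * Module.finrank K V₀ := Nat.mul_le_mul_left _ (by omega)
        omega
      have hzk : v ≠ k • v := fun e => hk1 (smul_left_injective K h.v_ne
        (show k • v = (1 : K) • v by rw [one_smul, ← e]))
      -- the common argument at the further block
      have hdefault : ∀ a : A, ∀ p ∈ P, ρ a v = v → ρ p (ρ a v) = v → ρ p (ρ a (k • v)) = k • v →
          ∀ (c : K) (w : V), ρ a (c • w) = c • ρ a w := by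
        intro a p hp hav hpz hpz'
        rw [hav] at hpz
        rw [h.apply_eq hp.1 h.v_mem h.v_ne hpz (h.apply_mem_of_fix F hav (V₀.smul_mem k h.v_mem))] at hpz'
        exact hkgen a v h.v_ne (by rw [hpz', hav])
      by_cases h1 : V₀ ≤ W₁
      · refine h.based3_of_slots F hEc (h.apply_mem F hy h.v_mem) h.v_mem h.v_mem
          (V₀.smul_mem k h.v_mem) h.v_ne (smul_ne_zero hk0 h.v_ne) hzk ?_
        intro a p hp hav hay _ hpz hpz' w hw
        exact hW₁fix a (hdefault a p hp hav hpz hpz') hav hay w (h1 hw)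
      obtain ⟨u, hu, huW⟩ := SetLike.not_le_iff_exists.1 h1
      obtain ⟨hW₂, hW₂y, hd₂⟩ := h.grow F hy hy2 hns hW₁ hW₁y hu huW
      set W₂ : Submodule K V := W₁ ⊔ Submodule.span K {u, ρ y u} with hW₂def
      by_cases h2 : V₀ ≤ W₂
      · refine h.based3_of_slots F hEc (h.apply_mem F hy h.v_mem) hu h.v_mem
          (V₀.smul_mem k h.v_mem) h.v_ne (smul_ne_zero hk0 h.v_ne) hzk ?_
        intro a p hp hav hay hau hpz hpz' w hw
        have hlin := hdefault a p hp hav hpz hpz'
        exact hpair a _ u hu hlin hav hay (hW₁fix a hlin hav hay) hau w (h2 hw)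
      -- dimension six
      let SP : Submodule K V := Submodule.span K (Set.range fun i => ρ (R i) v)
      have hSP : ∀ p ∈ P, ρ p v ∈ SP := by
        intro p hp
        obtain ⟨i, hi⟩ := hR p hp
        have hiE : R i ∈ E := by
          have := E.mul_mem hp.1 (E.inv_mem (h.le' hi))
          simpa [mul_assoc] using this
        have e : ρ p v = χ ((R i)⁻¹ * p) • ρ (R i) v := by
          rw [← F.lin (R i) hiE, ← h.apply' _ hi v h.v_mem, ← apply_mul, mul_inv_cancel_left]
        rw [e]
        exact Submodule.smul_mem _ _ (Submodule.subset_span ⟨i, rfl⟩)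
      obtain ⟨u', hu', hu'W, hu'S⟩ : ∃ u' ∈ V₀, u' ∉ W₂ ∧ u' ∉ SP := by
        obtain ⟨x, hx, hxW⟩ := SetLike.not_le_iff_exists.1 h2
        obtain ⟨-, -, hd₃⟩ := h.grow F hy hy2 hns hW₂ hW₂y hx hxW
        have hd6 : 6 ≤ Module.finrank K V₀ := by
          have := Submodule.finrank_mono (h.grow F hy hy2 hns hW₂ hW₂y hx hxW).1
          omega
        have hSPdim : Module.finrank K SP ≤ 4 := by
          have := finrank_range_le_card (R := K) fun i => ρ (R i) v
          rwa [Fintype.card_fin] at this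
        obtain ⟨z, hz, hzS⟩ := SetLike.not_le_iff_exists.1 (fun hle : V₀ ≤ SP => by
          have := Submodule.finrank_mono hle
          omega)
        by_cases hxS : x ∈ SP
        · by_cases hzW : z ∈ W₂
          · refine ⟨x + z, V₀.add_mem hx hz, fun e => hxW ?_, fun e => hzS ?_⟩
            · simpa using W₂.sub_mem e hzW
            · simpa using SP.sub_mem e hxS
          · exact ⟨z, hz, hzW, hzS⟩
        · exact ⟨x, hx, hxW, hxS⟩
      obtain ⟨hW₃, hW₃y, hd₃⟩ := h.grow F hy hy2 hns hW₂ hW₂y hu' hu'W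
      have h3 : V₀ ≤ W₂ ⊔ Submodule.span K {u', ρ y u'} := by
        by_contra h3
        obtain ⟨x, hx, hxW⟩ := SetLike.not_le_iff_exists.1 h3
        obtain ⟨hW₄, -, hd₄⟩ := h.grow F hy hy2 hns hW₃ hW₃y hx hxW
        have := Submodule.finrank_mono hW₄
        omega
      have hz0 : v + u' ≠ 0 := fun e => hu'W (by
        have hv : v ∈ W₂ := Submodule.mem_sup_left (Submodule.mem_sup_right (Submodule.subset_span (by simp)))
        have := W₂.sub_mem (e ▸ W₂.zero_mem) hv
        simpa using this)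
      have hzz : v + u' ≠ k • u' := fun e => hu'W (by
        have hv : v ∈ W₂ := Submodule.mem_sup_left (Submodule.mem_sup_right (Submodule.subset_span (by simp)))
        have h0 : (k - 1) • u' = v := by rw [sub_smul, one_smul, ← e, add_sub_cancel_right]
        exact (W₂.smul_mem_iff (sub_ne_zero.2 hk1)).1 (h0.symm ▸ hv))
      refine h.based3_of_slots F hEc (h.apply_mem F hy h.v_mem) hu (V₀.add_mem h.v_mem hu')
        (V₀.smul_mem k hu') hz0 (smul_ne_zero hk0 (fun e => hu'W (e ▸ W₂.zero_mem))) hzz ?_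
      intro a p hp hav hay hau hpz hpz' w hw
      obtain ⟨k', hk'⟩ := F.semi a k
      have hu'0 : u' ≠ 0 := fun e => hu'W (e ▸ W₂.zero_mem)
      rw [hk', F.lin p hp.1] at hpz'
      have hk'0 : k' ≠ 0 := fun e => smul_ne_zero hk0 hu'0 (by rw [← hpz', e, zero_smul])
      have hpu : ρ p (ρ a u') = (k'⁻¹ * k) • u' := by
        rw [← smul_smul, ← hpz', inv_smul_smul₀ hk'0]
      rw [map_add, map_add, hav, hpu] at hpz
      have hc1 : k'⁻¹ * k = 1 := by
        by_contra hc
        apply hu'S
        have hmem : (1 - k'⁻¹ * k) • u' ∈ SP := by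
          have e : (1 - k'⁻¹ * k) • u' = ρ p v - v := by
            rw [sub_smul, one_smul]
            linear_combination (norm := module) (-1 : K) • hpz
          rw [e]
          exact SP.sub_mem (hSP p hp) (by simpa using hSP 1 P.one_mem)
        exact (SP.smul_mem_iff (sub_ne_zero.2 (Ne.symm hc))).1 hmem
      rw [hc1, one_smul] at hpz hpu
      have hpv := h.apply_eq hp.1 h.v_mem h.v_ne (add_right_cancel hpz)
        (h.apply_mem_of_fix F hav hu')
      rw [hpv] at hpu
      have hkk : k' = k := by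
        have := congrArg (fun t => k' * t) hc1
        simpa [← mul_assoc, hk'0] using this.symm
      have hlin := hkgen a u' hu'0 (by rw [hk', hkk])
      exact hpair a _ u' hu' hlin hav hay (hpair a _ u hu hlin hav hay (hW₁fix a hlin hav hay) hau) hpu w
        (h3 hw)

end CfsgLib.TripleBase
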