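import Cfsg.Agent.Lib.OddBase.Count
import Cfsg.Agent.Lib.OddBase.SmallAut
import Cfsg.Agent.Lib.TripleBase.Imprimitive
import Cfsg.Agent.Lib.TripleBase.Monomial

/-!
A completely reducible solvable linear group on a finite module has a base of three vectors.
-/

set_option autoImplicit false
set_option linter.style.haveILetI false

open Subgroup
open scoped commutatorElement

namespace CfsgLib.TripleBase

open CfsgLib.OddBase

universe u

theorem pow_eight_le : ∀ n : ℕ, 2 ≤ n → n ^ 8 ≤ 4 ^ (3 * n - 2) ∧ 2 * n ^ 8 < 27 ^ n := by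
  intro n hn
  induction n, hn using Nat.le_induction with
  | base => norm_num
  | succ n hn ih =>
    have h1 : ((n + 1) * 2) ^ 8 ≤ (3 * n) ^ 8 := Nat.pow_le_pow_left (by omega) _
    rw [mul_pow, mul_pow] at h1
    have h2 : (n + 1) ^ 8 ≤ 26 * n ^ 8 := by norm_num at h1; omega
    refine ⟨?_, ?_⟩
    · rw [show 3 * (n + 1) - 2 = (3 * n - 2) + 3 by omega, pow_add]
      calc (n + 1) ^ 8 ≤ 26 * n ^ 8 := h2
        _ ≤ n ^ 8 * 4 ^ 3 := by omega
        _ ≤ _ := Nat.mul_le_mul_right _ ih.1
    · rw [pow_succ 27 n]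
      omega

/-- Faithful actions in which the scalars form a field. -/
theorem based3_of_quasi {A : Type u} [Group A] [Finite A] [Group.IsSolvable A] {V : Type u}
    [AddCommGroup V] [Finite V] [Nontrivial V] {ρ : A →* AddMonoid.End V} {U : Subgroup A}
    (h : Quasi ρ U) (hsmall : SmallBased3.{u} (Nat.card V)) : Based3 ρ := by
  classical
  haveI := h.normal
  set C := centralizer (U : Set A) with hC
  by_cases hCU : C ≤ U
  · exact Based3.of_based (h.based_of_centralizer_le hCU)
  obtain ⟨E, hL⟩ := exists_layer h.comm h.max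
  haveI := hL.normal
  haveI := hL.normal_quot
  haveI := h.isCyclic
  obtain ⟨e, he⟩ := hL.exists_sq h.comm
  have hTne : U.relIndex E ≠ 1 := fun e1 => hCU (by
    have hEU : E ≤ U := relIndex_eq_one.1 e1
    intro c hc
    exact hL.cent ⟨mem_centralizer_iff.2 fun x hx => mem_centralizer_iff.1 hc x (hEU hx), hc⟩)
  have he2 : 2 ≤ e := by
    rcases e with _ | _ | e
    · exact absurd he (by rw [zero_pow two_ne_zero]; exact (FiniteIndex.index_ne_zero : (U.subgroupOf E).index ≠ 0))
    · exact absurd he hTne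
    · omega
  -- the field
  letI fK := h.isField.toField
  haveI : Finite (AddMonoid.End V) := Finite.of_injective _ DFunLike.coe_injective
  letI mV : Module (scalarRing ρ U) V := Module.compHom V (scalarRing ρ U).subtype
  have hsmul : ∀ (c : scalarRing ρ U) (x : V), c • x = (c : AddMonoid.End V) x := fun c x => rfl
  haveI : Module.Finite (scalarRing ρ U) V := Module.Finite.of_finite
  set l := Module.finrank (scalarRing ρ U) V with hl
  have hVl : Nat.card V = Nat.card (scalarRing ρ U) ^ l := Module.natCard_eq_pow_finrank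
  set q := Nat.card (scalarRing ρ U) with hq
  have hu_lt := h.card_lt
  have hq3 : 3 ≤ q := by
    have h1 : Nat.card U ≠ 1 := fun e1 => by
      have hU : U = ⊥ := Subgroup.card_eq_one.1 e1
      obtain ⟨x, hx, hxU⟩ := SetLike.not_le_iff_exists.1 (fun hle : E ≤ U => hTne (relIndex_eq_one.2 hle))
      obtain ⟨y, hy, hne⟩ := hL.exists_comm_ne_one hx hxU
      have := hL.comm x hx y hy
      rw [hU, mem_bot] at this
      exact hne this
    have := Nat.card_pos (α := U)
    omega
  obtain ⟨k, hk0, hk1, hkgen⟩ := h.exists_generator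
  have hlinC : ∀ a ∈ C, ∀ (c : scalarRing ρ U) (x : V), ρ a (c • x) = c • ρ a x := fun a ha c x =>
    DFunLike.congr_fun (h.comm_scalar ha c.2) x
  have F : Frame (scalarRing ρ U) ρ U E :=
    { layer := hL
      cyclic := h.isCyclic
      normal := h.normal
      semi := fun a c => ⟨⟨conjEnd ρ a c.1, conjEnd_mem ρ U a c.2⟩, fun x =>
        DFunLike.congr_fun (mul_eq_conjEnd_mul ρ a c.1) x⟩
      lin := fun x hx => hlinC x (hL.le_cent hx)
      scalar := fun x hx => ⟨⟨ρ x, apply_mem_scalarRing ρ hx⟩, fun w => rfl⟩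
      free := fun x hx w hw hxw => by
        by_contra hne
        exact hw (h.apply_eq_self hx hne hxw)
      gen := ⟨k, hk0, hk1 hq3, fun a w hw haw => hlinC a (hkgen a (by
        refine (mul_eq_conjEnd_mul ρ a k.1).trans ?_
        congr 1
        by_contra hne
        have haw' : conjEnd ρ a k.1 (ρ a w) = k.1 (ρ a w) :=
          (DFunLike.congr_fun (mul_eq_conjEnd_mul ρ a k.1) w).symm.trans haw
        refine hw (apply_injective ρ a ?_)
        rw [map_zero]
        exact h.scalar _ (Subring.sub_mem _ (conjEnd_mem ρ U a k.2) k.2) (sub_ne_zero.2 hne)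
          ((show conjEnd ρ a k.1 (ρ a w) - k.1 (ρ a w) = 0 by rw [haw', sub_self]).trans
            (map_zero _).symm)))⟩ }
  obtain ⟨l', hVl', hTl⟩ := exists_dim h hL
  obtain rfl : l' = l := Nat.pow_right_injective (show 2 ≤ q by omega) (hVl'.symm.trans hVl)
  -- the layer is smaller than the module
  have hT : e ^ 2 < Nat.card V := by
    rw [hVl]
    refine lt_of_le_of_lt (he ▸ hTl) (lt_of_lt_of_le ?_ (Nat.pow_le_pow_left hq3 l))
    have hpow : ∀ n, n * n < 3 ^ n := by
      intro n
      induction n with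
      | zero => norm_num
      | succ n ih =>
        have h2n : n < 3 ^ n := Nat.lt_pow_self (by norm_num)
        rw [pow_succ]
        nlinarith
    exact hpow l
  have hcardQ : Nat.card (E ⧸ U.subgroupOf E) = e ^ 2 := he
  -- the image of the action on the layer
  letI : CommGroup (E ⧸ U.subgroupOf E) :=
    { (inferInstance : Group (E ⧸ U.subgroupOf E)) with mul_comm := hL.quot_comm }
  set s := Nat.card (C.map hL.act) with hs
  have hs3 : s ≤ (e ^ 2) ^ 3 := by
    obtain ⟨p, hp⟩ := hsmall A (Additive (E ⧸ U.subgroupOf E)) (addRep hL.act)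
      (by rw [Nat.card_congr (Additive.toMul (α := E ⧸ U.subgroupOf E)), hcardQ]; exact hT)
      (act_cr h hL)
    refine le_trans (Nat.card_le_card_of_injective
      (fun (σ : C.map hL.act) (i : Fin 3) => Additive.ofMul ((σ : MulAut (E ⧸ U.subgroupOf E)) (p i).toMul)) ?_) ?_
    · rintro ⟨_, a, ha, rfl⟩ ⟨_, b, hb, rfl⟩ hab
      refine Subtype.ext ?_
      have h1 := hp (b⁻¹ * a) fun i => by
        have := congrFun hab i
        simp only [← addRep_apply] at this
        rw [apply_mul, this, apply_inv_apply]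
      rw [addRep_eq_one, map_mul, map_inv] at h1
      exact (inv_mul_eq_one.1 h1).symm
    · rw [Nat.card_fun, Nat.card_fin, Nat.card_congr (Additive.toMul (α := E ⧸ U.subgroupOf E)), hcardQ]
  have hCcard : Nat.card C = Nat.card U * e ^ 2 * s := by
    have h1 := hL.inf_ker_act
    have hUE : Nat.card E = Nat.card U * e ^ 2 := by
      rw [← he, ← relIndex_bot_left, ← relIndex_bot_left,
        relIndex_mul_relIndex ⊥ U E bot_le hL.le]
    rw [← hUE]
    have h2 := (hL.act.domRestrict C).ker.card_mul_index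
    rw [index_ker, MonoidHom.domRestrict_range] at h2
    have h3 : (hL.act.domRestrict C).ker.map C.subtype = E := by
      refine Eq.trans ?_ h1
      ext x
      constructor
      · rintro ⟨y, hy, rfl⟩; exact ⟨y.2, hy⟩
      · rintro ⟨hx1, hx2⟩; exact ⟨⟨x, hx1⟩, hx2, rfl⟩
    have h4 : Nat.card E = Nat.card (hL.act.domRestrict C).ker :=
      (congrArg (fun K : Subgroup A => Nat.card K) h3).symm.trans
        (Subgroup.card_map_of_injective C.subtype_injective)
    rw [← h2, h4]
  have hidx : C.index + 2 ≤ q := h.index_centralizer_le hq3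
  have hA : Nat.card A ≤ (q - 2) * ((q - 1) * (e ^ 2 * s)) := by
    rw [← C.index_mul_card, hCcard, mul_assoc (Nat.card U)]
    exact Nat.mul_le_mul (by omega) (Nat.mul_le_mul_right _ (by omega))
  -- fixed points
  have hV1 : 1 ≤ Nat.card V := Nat.card_pos
  have hfs : ∀ g : A, g ≠ 1 → fs ρ g ^ 4 ≤ Nat.card V ^ 3 := by
    have hsq : ∀ g : A, fs ρ g ^ 2 ≤ Nat.card V → fs ρ g ^ 4 ≤ Nat.card V ^ 3 := fun g hg =>
      calc fs ρ g ^ 4 = (fs ρ g ^ 2) ^ 2 := by ring
        _ ≤ Nat.card V ^ 2 := Nat.pow_le_pow_left hg 2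
        _ ≤ _ := Nat.pow_le_pow_right hV1 (by norm_num)
    intro g hg1
    by_cases hgC : g ∈ C
    · by_cases hgU : g ∈ U
      · rw [h.fs_eq_one hgU hg1, one_pow]; exact Nat.one_le_pow _ _ hV1
      obtain ⟨y, hy, hne⟩ := hL.exists_comm_ne_one' hgC hgU
      by_cases hbU : ⁅g, y⁆ ∈ U
      · exact hsq g (h.fs_sq_le_card hbU hne)
      have hb : ⁅g, y⁆ ∈ E := by
        rw [commutatorElement_def]
        exact E.mul_mem (‹E.Normal›.conj_mem y hy g) (E.inv_mem hy)
      obtain ⟨y₂, hy₂, hne₂⟩ := hL.exists_comm_ne_one hb hbU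
      have hb2 := h.fs_sq_le_card (hL.comm _ hb y₂ hy₂) hne₂
      calc fs ρ g ^ 4 = (fs ρ g ^ 2) ^ 2 := by ring
        _ ≤ (Nat.card V * fs ρ ⁅g, y⁆) ^ 2 := Nat.pow_le_pow_left (fs_sq_le ρ g y) 2
        _ = Nat.card V ^ 2 * fs ρ ⁅g, y⁆ ^ 2 := mul_pow _ _ _
        _ ≤ Nat.card V ^ 2 * Nat.card V := Nat.mul_le_mul_left _ hb2
        _ = _ := by ring
    · rw [hC, mem_centralizer_iff] at hgC
      push Not at hgC
      obtain ⟨x, hx, hne⟩ := hgC
      refine hsq g (h.fs_sq_le_card (x := x) ?_ fun e1 => hne ?_)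
      · rw [commutatorElement_def]
        exact U.mul_mem (h.normal.conj_mem x hx g) (U.inv_mem hx)
      · exact (commutatorElement_eq_one_iff_mul_comm.1 e1).symm
  have hcount : Nat.card A ^ 4 < Nat.card V ^ 3 → Based3 ρ := by
    intro hlt
    refine based3_of_count ρ fun g hg => ?_
    refine lt_of_pow_lt_pow_left₀ 4 (Nat.zero_le _) ?_
    have hpos : 0 < (fs ρ g ^ 3) ^ 4 :=
      pow_pos (pow_pos (Nat.card_pos (α := fixed ρ g)) 3) 4
    calc (Nat.card A * fs ρ g ^ 3) ^ 4 = Nat.card A ^ 4 * (fs ρ g ^ 3) ^ 4 := mul_pow _ _ _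
      _ < Nat.card V ^ 3 * (fs ρ g ^ 3) ^ 4 := Nat.mul_lt_mul_of_pos_right hlt hpos
      _ = Nat.card V ^ 3 * (fs ρ g ^ 4) ^ 3 := by ring
      _ ≤ Nat.card V ^ 3 * (Nat.card V ^ 3) ^ 3 := Nat.mul_le_mul_left _ (Nat.pow_le_pow_left (hfs g hg) 3)
      _ = (Nat.card V ^ 3) ^ 4 := by ring
  by_cases hbig : 4 * e ≤ l
  · apply hcount
    have h1 : Nat.card A < q ^ (3 * e) := by
      refine lt_of_le_of_lt hA ?_
      have h8 : e ^ 2 * s ≤ e ^ 8 := by
        calc e ^ 2 * s ≤ e ^ 2 * (e ^ 2) ^ 3 := Nat.mul_le_mul_left _ hs3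
          _ = _ := by ring
      refine lt_of_le_of_lt (Nat.mul_le_mul_left _ (Nat.mul_le_mul_left _ h8)) ?_
      obtain ⟨h4, h27⟩ := pow_eight_le e he2
      rcases Nat.lt_or_ge q 4 with hq4 | hq4
      · have hq' : q = 3 := by omega
        rw [hq', pow_mul]
        simpa using h27
      · have he8 : 0 < e ^ 8 := pow_pos (by omega) 8
        calc (q - 2) * ((q - 1) * e ^ 8) < q * (q * e ^ 8) := by
              refine Nat.mul_lt_mul_of_lt_of_le (by omega) ?_ (by positivity)
              exact Nat.mul_le_mul_right _ (by omega)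
          _ ≤ q * (q * q ^ (3 * e - 2)) :=
              Nat.mul_le_mul_left _ (Nat.mul_le_mul_left _ (h4.trans (Nat.pow_le_pow_left hq4 _)))
          _ = _ := by rw [← pow_succ', ← pow_succ']; congr 1; omega
    calc Nat.card A ^ 4 < (q ^ (3 * e)) ^ 4 := Nat.pow_lt_pow_left h1 (by norm_num)
      _ = q ^ (3 * (4 * e)) := by rw [← pow_mul]; congr 1; ring
      _ ≤ q ^ (3 * l) := Nat.pow_le_pow_right (by omega) (by omega)
      _ = _ := by rw [hVl, ← pow_mul, mul_comm]
  by_cases htwo : e = 2 ∧ (6 ≤ l ∨ (4 ≤ l ∧ 24 ≤ q))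
  · obtain ⟨rfl, hcase⟩ := htwo
    apply hcount
    have hs6 : s ≤ 6 := by
      haveI : Fact (Nat.Prime 2) := ⟨Nat.prime_two⟩
      have hQ : Nat.card (E ⧸ U.subgroupOf E) = 2 ^ 2 := hcardQ
      have hexp : ∀ x : E ⧸ U.subgroupOf E, x ^ 2 = 1 := fun x =>
        pow_eq_one_of_CR hQ hL.act (act_cr h hL) x
      have := card_dvd_aut hQ hexp (C.map hL.act).subtype (C.map hL.act).subtype_injective
      exact Nat.le_of_dvd (by norm_num) (this.trans (by simp [Fin.prod_univ_two]))
    have hA' : Nat.card A ≤ (q - 2) * ((q - 1) * 24) :=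
      hA.trans (Nat.mul_le_mul_left _ (Nat.mul_le_mul_left _ (by omega)))
    have hq2 : Nat.card A ≤ 24 * q ^ 2 := by
      refine hA'.trans ?_
      calc (q - 2) * ((q - 1) * 24) ≤ q * (q * 24) :=
            Nat.mul_le_mul (by omega) (Nat.mul_le_mul_right _ (by omega))
        _ = _ := by ring
    rw [hVl, ← pow_mul]
    rcases hcase with hl6 | ⟨hl4, hq24⟩
    · refine lt_of_lt_of_le ?_ (Nat.pow_le_pow_right (by omega) (show 18 ≤ l * 3 by omega))
      rcases Nat.lt_or_ge q 4 with hq4 | hq4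
      · have hq' : q = 3 := by omega
        rw [hq'] at hA' ⊢
        calc Nat.card A ^ 4 ≤ 48 ^ 4 := Nat.pow_le_pow_left (by simpa using hA') 4
          _ < _ := by norm_num
      · calc Nat.card A ^ 4 ≤ (24 * q ^ 2) ^ 4 := Nat.pow_le_pow_left hq2 4
          _ = 24 ^ 4 * q ^ 8 := by ring
          _ < q ^ 10 * q ^ 8 := Nat.mul_lt_mul_of_pos_right
              (lt_of_lt_of_le (by norm_num) (Nat.pow_le_pow_left hq4 10)) (pow_pos (by omega) 8)
          _ = _ := by ring
    · refine lt_of_lt_of_le ?_ (Nat.pow_le_pow_right (by omega) (show 12 ≤ l * 3 by omega))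
      have hA3 : Nat.card A < q ^ 3 := by
        calc Nat.card A ≤ (q - 2) * ((q - 1) * 24) := hA'
          _ < q * (q * 24) := Nat.mul_lt_mul_of_lt_of_le (by omega) (Nat.mul_le_mul_right _ (by omega))
              (by positivity)
          _ ≤ q * (q * q) := Nat.mul_le_mul_left _ (Nat.mul_le_mul_left _ hq24)
          _ = _ := by ring
      calc Nat.card A ^ 4 < (q ^ 3) ^ 4 := Nat.pow_lt_pow_left hA3 (by norm_num)
        _ = _ := by rw [← pow_mul]
  haveI : Finite (scalarRing ρ U) := Finite.of_injective _ Subtype.val_injective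
  refine based3_of_small_dim F he he2 (by omega) fun he' => ⟨?_, fun hl4 hsq a c w => ?_⟩
  · by_contra h6
    exact htwo ⟨he', Or.inl (by omega)⟩
  -- a field of fewer than `24` elements without a square root of `-1` is prime
  haveI := Fintype.ofFinite (scalarRing ρ U)
  have hq24 : q < 24 := by
    by_contra h24
    exact htwo ⟨he', Or.inr ⟨hl4, by omega⟩⟩
  have hcard : Fintype.card (scalarRing ρ U) = q := by rw [hq, Nat.card_eq_fintype_card]
  have hmod : q % 4 = 3 := by
    have := (not_iff_not.2 (FiniteField.isSquare_neg_one_iff (F := scalarRing ρ U))).1 hsq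
    rw [hcard] at this
    omega
  have hpp : IsPrimePow q := hcard ▸ Fintype.isPrimePow_card_of_field
  have hprime : q.Prime := by
    rcases (show q = 3 ∨ q = 7 ∨ q = 11 ∨ q = 15 ∨ q = 19 ∨ q = 23 by omega) with
      e | e | e | e | e | e <;> rw [e] at hpp ⊢
    · norm_num
    · norm_num
    · norm_num
    · exfalso
      obtain ⟨p, j, hp, hj, e⟩ := hpp
      have hp' := hp.nat_prime
      have h3 := Nat.Prime.dvd_of_dvd_pow (n := j) Nat.prime_three (e ▸ (by norm_num : (3 : ℕ) ∣ 15))
      have h5 := Nat.Prime.dvd_of_dvd_pow (n := j) (by norm_num : Nat.Prime 5) (e ▸ (by norm_num : (5 : ℕ) ∣ 15))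
      have := (Nat.prime_dvd_prime_iff_eq Nat.prime_three hp').1 h3
      have := (Nat.prime_dvd_prime_iff_eq (by norm_num : Nat.Prime 5) hp').1 h5
      omega
    · norm_num
    · norm_num
  -- so every element commutes with the scalars
  have hzm : (AddSubgroup.zmultiples (1 : scalarRing ρ U)) = ⊤ := by
    haveI : Fact (Nat.card (scalarRing ρ U)).Prime := ⟨hq ▸ hprime⟩
    refine (AddSubgroup.zmultiples (1 : scalarRing ρ U)).eq_bot_or_eq_top_of_prime_card.resolve_left ?_
    rw [AddSubgroup.zmultiples_eq_bot]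
    exact one_ne_zero
  obtain ⟨n, hn⟩ : ∃ n : ℤ, n • (1 : scalarRing ρ U) = c :=
    AddSubgroup.mem_zmultiples_iff.1 (hzm ▸ AddSubgroup.mem_top c)
  rw [← hn, smul_assoc, one_smul, map_zsmul, smul_assoc, one_smul]

/-- An irreducible action of a solvable group. -/
theorem based3_irr {A : Type u} [Group A] [Finite A] [Group.IsSolvable A] {V : Type u}
    [AddCommGroup V] [Finite V] (ρ : A →* AddMonoid.End V) (hirr : Irr ρ)
    (hsmall : SmallBased3.{u} (Nat.card V)) : Based3 ρ := by
  classical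
  rcases subsingleton_or_nontrivial V with hV | hV
  · exact ⟨0, fun a _ => AddMonoidHom.ext fun v => Subsingleton.elim _ _⟩
  -- pass to the faithful image
  haveI : Finite (AddMonoid.End V) := Finite.of_injective _ DFunLike.coe_injective
  let G := ρ.toHomUnits.range
  let σ : G →* AddMonoid.End V := (Units.coeHom _).comp G.subtype
  have hσ : Function.Injective σ := fun x y e => Subtype.ext (Units.ext e)
  have hirrσ : Irr σ := fun X hX => hirr X fun a v hv => hX ⟨_, a, rfl⟩ v hv
  suffices Based3 σ by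
    obtain ⟨p, hp⟩ := this
    exact ⟨p, fun a ha => hp ⟨_, a, rfl⟩ ha⟩
  haveI : Group.IsSolvable G := Group.isSolvable_of_surjective ρ.toHomUnits.rangeRestrict_surjective
  let s : Set (Subgroup G) := {B | B.Normal ∧ ∀ x ∈ B, ∀ y ∈ B, x * y = y * x}
  obtain ⟨U, ⟨hUn, hUab⟩, hUmax⟩ := (Set.toFinite s).exists_maximal
    ⟨⊥, inferInstance, fun x hx y hy => by rw [mem_bot.1 hx, mem_bot.1 hy]⟩
  haveI := hUn
  rcases injective_or_blocks hirrσ U hUab with hinj | ⟨ι, hι, hact, B, hcard⟩
  · exact based3_of_quasi ⟨hσ, hUn, hUab, fun B hB hBab hle => hUmax ⟨hB, hBab⟩ hle, hinj⟩ hsmall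
  · exact based3_of_blocks hirrσ hsmall B hcard

/-- Every completely reducible action of a solvable group has a base of three vectors. -/
theorem smallBased3 : ∀ N, SmallBased3.{u} N := by
  intro N
  induction N with
  | zero => intro B _ _ _ X _ _ σ h; omega
  | succ N ih =>
    intro B _ _ _ X _ _ σ hX hcr
    refine based3_of_irr (n := N) (fun Y _ _ τ hY hirr => ?_) X σ (by omega) hcr
    exact based3_irr τ hirr fun B' _ _ _ X' _ _ σ' h1 h2 => ih B' X' σ' (by omega) h2

/-- Seress: three vectors with trivial common stabiliser. -/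
theorem exists_triple {A : Type u} [Group A] [Finite A] [Group.IsSolvable A] {V : Type u}
    [AddCommGroup V] [Finite V] (ρ : A →* AddMonoid.End V) (hcr : CR ρ) : Based3 ρ :=
  smallBased3 (Nat.card V + 1) A V ρ (Nat.lt_succ_self _) hcr

end CfsgLib.TripleBase
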