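import Cfsg.Agent.Lib.OddBase.Scalars

/-!
Three-vector bases for linear actions: definitions, passage to irreducible actions and the counting
criterion.
-/

set_option autoImplicit false

namespace CfsgLib.TripleBase

open CfsgLib.OddBase

universe u w

variable {A : Type u} [Group A] {V : Type w} [AddCommGroup V]

/-- Only operators acting trivially fix the three vectors. -/
def Free3 (ρ : A →* AddMonoid.End V) (p : Fin 3 → V) : Prop :=
  ∀ a, (∀ i, ρ a (p i) = p i) → ρ a = 1

/-- The action has a base of three vectors. -/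
def Based3 (ρ : A →* AddMonoid.End V) : Prop := ∃ p : Fin 3 → V, Free3 ρ p

/-- Every completely reducible solvable action on fewer than `N` vectors has a base of three
vectors. -/
def SmallBased3 (N : ℕ) : Prop :=
  ∀ (B : Type u) [Group B] [Finite B] [Group.IsSolvable B] (X : Type u) [AddCommGroup X] [Finite X]
    (σ : B →* AddMonoid.End X), Nat.card X < N → CR σ → Based3 σ

/-- A base of two vectors gives one of three. -/
theorem Based3.of_based {ρ : A →* AddMonoid.End V} (h : Based ρ) : Based3 ρ := by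
  obtain ⟨⟨v, w⟩, h⟩ := h
  exact ⟨![v, w, w], fun a ha => h a (ha 0) (ha 1)⟩

/-- It suffices to treat irreducible actions. -/
theorem based3_of_irr [Finite A] {n : ℕ}
    (hirr : ∀ (X : Type w) [AddCommGroup X] [Finite X] (σ : A →* AddMonoid.End X),
      Nat.card X ≤ n → Irr σ → Based3 σ) :
    ∀ (V : Type w) [AddCommGroup V] [Finite V] (ρ : A →* AddMonoid.End V),
      Nat.card V ≤ n → CR ρ → Based3 ρ := by
  suffices H : ∀ m, ∀ (V : Type w) [AddCommGroup V] [Finite V] (ρ : A →* AddMonoid.End V),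
      Nat.card V = m → m ≤ n → CR ρ → Based3 ρ from fun V _ _ ρ hn hc => H _ V ρ rfl hn hc
  intro m
  induction m using Nat.strong_induction_on with
  | _ m IH =>
  intro V _ _ ρ hm hn hc
  by_cases hi : Irr ρ
  · exact hirr V ρ (hm ▸ hn) hi
  · simp only [Irr, not_forall] at hi
    obtain ⟨U, hU, hne⟩ := hi
    rw [not_or] at hne
    obtain ⟨W, hW, hinf, hsup⟩ := hc U hU
    have hlt : ∀ X : AddSubgroup V, X ≠ ⊤ → Nat.card X < m := fun X hX => by
      refine lt_of_le_of_ne (hm ▸ Nat.card_le_card_of_injective _ Subtype.val_injective) fun e => ?_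
      exact hX (AddSubgroup.eq_top_of_card_eq X (e.trans hm.symm))
    have hWt : W ≠ ⊤ := fun e => hne.1 (by rw [e, inf_top_eq] at hinf; exact hinf)
    obtain ⟨pu, hu⟩ := IH _ (hlt U hne.2) U (res ρ U hU) rfl
      ((hlt U hne.2).le.trans hn) (hc.res U hU)
    obtain ⟨pw, hw⟩ := IH _ (hlt W hWt) W (res ρ W hW) rfl
      ((hlt W hWt).le.trans hn) (hc.res W hW)
    refine ⟨fun i => (pu i : V) + pw i, fun a ha => ?_⟩
    have split : ∀ (u : U) (w : W), ρ a ((u : V) + w) = (u : V) + w →
        res ρ U hU a u = u ∧ res ρ W hW a w = w := by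
      intro u w h
      rw [map_add] at h
      have hmem : ρ a (u : V) - u ∈ U ⊓ W := by
        refine ⟨U.sub_mem (hU a _ u.2) u.2, ?_⟩
        have : ρ a (u : V) - u = (w : V) - ρ a w := by
          rw [sub_eq_sub_iff_add_eq_add, h, add_comm]
        rw [this]; exact W.sub_mem w.2 (hW a _ w.2)
      rw [hinf, AddSubgroup.mem_bot, sub_eq_zero] at hmem
      rw [hmem] at h
      exact ⟨Subtype.ext hmem, Subtype.ext (add_left_cancel h)⟩
    have e1 := hu a fun i => (split _ _ (ha i)).1
    have e2 := hw a fun i => (split _ _ (ha i)).2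
    ext v
    have hv : v ∈ U ⊔ W := by rw [hsup]; trivial
    obtain ⟨u, hu', w, hw', rfl⟩ := AddSubgroup.mem_sup.1 hv
    have f1 : ρ a u = u := congrArg Subtype.val (DFunLike.congr_fun e1 (⟨u, hu'⟩ : U))
    have f2 : ρ a w = w := congrArg Subtype.val (DFunLike.congr_fun e2 (⟨w, hw'⟩ : W))
    show ρ a (u + w) = u + w
    rw [map_add, f1, f2]

/-- If the nonidentity elements cannot fix all triples there is a base of three vectors. -/
theorem based3_of_count [Finite A] [Finite V] (ρ : A →* AddMonoid.End V)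
    (h : ∀ g : A, g ≠ 1 → Nat.card A * fs ρ g ^ 3 < Nat.card V ^ 3) : Based3 ρ := by
  classical
  by_contra hcon
  have hcov : ∀ p : Fin 3 → V, ∃ g : A, g ≠ 1 ∧ ∀ i, ρ g (p i) = p i := by
    intro p
    by_contra hp
    push Not at hp
    refine hcon ⟨p, fun a ha => ?_⟩
    rcases eq_or_ne a 1 with rfl | hne
    · exact map_one ρ
    · obtain ⟨i, hi⟩ := hp a hne
      exact absurd (ha i) hi
  choose g hg1 hg using hcov
  cases nonempty_fintype A
  cases nonempty_fintype V
  have hle : Nat.card (Fin 3 → V) ≤ ∑ x : {x : A // x ≠ 1}, fs ρ x.1 ^ 3 := by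
    refine (Nat.card_le_card_of_injective
      (fun p => (⟨⟨g p, hg1 p⟩, fun i => ⟨p i, hg p i⟩⟩ :
        Σ x : {x : A // x ≠ 1}, Fin 3 → fixed ρ x.1)) ?_).trans_eq ?_
    · intro p p' e
      funext i
      exact congrArg (fun s : Σ x : {x : A // x ≠ 1}, Fin 3 → fixed ρ x.1 => (s.2 i : V)) e
    · rw [Nat.card_sigma]
      refine Finset.sum_congr rfl fun x _ => ?_
      rw [Nat.card_fun, Nat.card_fin]; rfl
  rw [Nat.card_fun, Nat.card_fin] at hle
  have hV : 0 < Nat.card V ^ 3 := pow_pos Nat.card_pos 3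
  have hA : 0 < Nat.card A := Nat.card_pos
  have h1 : Nat.card A * ∑ x : {x : A // x ≠ 1}, fs ρ x.1 ^ 3 ≤
      (Nat.card A - 1) * (Nat.card V ^ 3 - 1) := by
    rw [Finset.mul_sum]
    refine (Finset.sum_le_card_nsmul _ _ (Nat.card V ^ 3 - 1) fun x _ => ?_).trans_eq ?_
    · have := h x.1 x.2
      omega
    · rw [smul_eq_mul, Finset.card_univ, Fintype.card_subtype_compl, Fintype.card_subtype_eq,
        ← Nat.card_eq_fintype_card]
  have h2 : Nat.card A * Nat.card V ^ 3 ≤ (Nat.card A - 1) * (Nat.card V ^ 3 - 1) :=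
    le_trans (Nat.mul_le_mul_left _ hle) h1
  have h3 : (Nat.card A - 1) * (Nat.card V ^ 3 - 1) < Nat.card A * Nat.card V ^ 3 :=
    Nat.mul_lt_mul'' (by omega) (by omega)
  omega

end CfsgLib.TripleBase
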