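import Cfsg.Agent.Lib.OddBase.Layer

/-!
Semilinear actions with a layer: line stabilisers in the layer, their eigenspaces, and the block
decomposition they give.
-/

set_option autoImplicit false
set_option linter.style.haveILetI false
set_option linter.unusedSectionVars false

open Subgroup
open scoped commutatorElement

namespace CfsgLib.TripleBase

open CfsgLib.OddBase

universe u

variable {A : Type u} [Group A] [Finite A] {K : Type u} [Field K] {V : Type u} [AddCommGroup V]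
  [Module K V]

/-- A semilinear action in which `U` consists of scalars and `E` is a linear layer over it. -/
structure Frame (K : Type u) [Field K] [Module K V] (ρ : A →* AddMonoid.End V) (U E : Subgroup A) :
    Prop where
  layer : Layer U E
  cyclic : IsCyclic U
  normal : U.Normal
  semi : ∀ a, ∀ c : K, ∃ c' : K, ∀ v, ρ a (c • v) = c' • ρ a v
  lin : ∀ x ∈ E, ∀ (c : K) (v : V), ρ x (c • v) = c • ρ x v
  scalar : ∀ x ∈ U, ∃ c : K, ∀ v, ρ x v = c • v
  free : ∀ x ∈ U, ∀ v : V, v ≠ 0 → ρ x v = v → x = 1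
  gen : ∃ k : K, k ≠ 0 ∧ k ≠ 1 ∧ ∀ (a : A) (v : V), v ≠ 0 → ρ a (k • v) = k • ρ a v →
    ∀ (c : K) (w : V), ρ a (c • w) = c • ρ a w

/-- An eigenspace of a maximal line stabiliser in the layer. -/
structure Eigen (ρ : A →* AddMonoid.End V) (U E L : Subgroup A) (χ : A → K) (V₀ : Submodule K V)
    (v : V) : Prop where
  le : U ≤ L
  le' : L ≤ E
  comm : ∀ x ∈ L, ∀ y ∈ L, x * y = y * x
  v_mem : v ∈ V₀
  v_ne : v ≠ 0
  apply' : ∀ x ∈ L, ∀ w ∈ V₀, ρ x w = χ x • w
  mem : ∀ w, (∀ x ∈ L, ρ x w = χ x • w) → w ∈ V₀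
  max : ∀ x ∈ E, ∀ w ∈ V₀, w ≠ 0 → ∀ c : K, ρ x w = c • w → x ∈ L

variable {ρ : A →* AddMonoid.End V} {U E : Subgroup A}

/-- The stabiliser of a line in the layer. -/
def lineStab (F : Frame K ρ U E) (v : V) : Subgroup A where
  carrier := {x | x ∈ E ∧ ∃ c : K, ρ x v = c • v}
  one_mem' := ⟨E.one_mem, 1, by rw [map_one, one_smul]; rfl⟩
  mul_mem' := fun {x y} ⟨hx, c, hc⟩ ⟨hy, d, hd⟩ => ⟨E.mul_mem hx hy, d * c, by
    rw [apply_mul, hd, F.lin x hx, hc, smul_smul]⟩
  inv_mem' := fun {x} ⟨hx, c, hc⟩ => ⟨E.inv_mem hx, c⁻¹, by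
    have h1 : v = c • ρ x⁻¹ v := by
      rw [← F.lin x⁻¹ (E.inv_mem hx), ← hc, apply_inv_apply]
    rcases eq_or_ne c 0 with rfl | h0
    · rw [zero_smul] at h1
      rw [inv_zero, zero_smul, h1, map_zero]
    · conv_rhs => rw [h1, inv_smul_smul₀ h0]⟩

theorem mem_lineStab {F : Frame K ρ U E} {v : V} {x : A} :
    x ∈ lineStab F v ↔ x ∈ E ∧ ∃ c : K, ρ x v = c • v := Iff.rfl

/-- A maximal line stabiliser exists. -/
theorem exists_eigen [Finite V] [Nontrivial V] (F : Frame K ρ U E) :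
    ∃ (L : Subgroup A) (χ : A → K) (V₀ : Submodule K V) (v : V), Eigen ρ U E L χ V₀ v := by
  classical
  haveI : Nonempty {v : V // v ≠ 0} := let ⟨v, hv⟩ := exists_ne (0 : V); ⟨⟨v, hv⟩⟩
  obtain ⟨⟨v, hv⟩, hmax⟩ := Finite.exists_max fun v : {v : V // v ≠ 0} =>
    Nat.card (lineStab F v.1)
  set L := lineStab F v with hL
  have hc : ∀ x : A, ∃ c : K, x ∈ L → ρ x v = c • v := fun x => by
    by_cases hx : x ∈ L
    · obtain ⟨c, hc⟩ := hx.2
      exact ⟨c, fun _ => hc⟩
    · exact ⟨0, fun h => absurd h hx⟩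
  choose χ hχ using hc
  have hLE : L ≤ E := fun x hx => hx.1
  have hUL : U ≤ L := fun x hx => ⟨F.layer.le hx, (F.scalar x hx).imp fun c hc => hc v⟩
  let V₀ : Submodule K V :=
    { carrier := {w | ∀ x ∈ L, ρ x w = χ x • w}
      add_mem' := fun {a b} ha hb x hx => by rw [map_add, ha x hx, hb x hx, smul_add]
      zero_mem' := fun x _ => by rw [map_zero, smul_zero]
      smul_mem' := fun c {w} hw x hx => by
        rw [F.lin x (hLE hx), hw x hx, smul_comm] }
  refine ⟨L, χ, V₀, v, hUL, hLE, fun x hx y hy => ?_, fun x hx => hχ x hx, hv,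
    fun x hx w hw => hw x hx, fun w hw => hw, fun x hx w hw hw0 c hcw => ?_⟩
  · rw [← commutatorElement_eq_one_iff_mul_comm]
    refine F.free _ (F.layer.comm x (hLE hx) y (hLE hy)) (ρ (y * x) v)
      (fun e => hv (apply_injective ρ (y * x) (e.trans (map_zero _).symm))) ?_
    rw [← apply_mul, show ⁅x, y⁆ * (y * x) = x * y by rw [commutatorElement_def]; group]
    rw [apply_mul, apply_mul, hχ y hy, hχ x hx, F.lin x (hLE hx), F.lin y (hLE hy), hχ y hy,
      hχ x hx, smul_comm]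
  · have hle : L ≤ lineStab F w := fun y hy => ⟨hLE hy, χ y, hw y hy⟩
    have := Subgroup.eq_of_le_of_card_ge hle (hmax ⟨w, hw0⟩)
    rw [this]
    exact ⟨hx, c, hcw⟩

/-- A product of commutators in a layer. -/
theorem comm_mul_right (hL : Layer U E) {y a b : A} (hy : y ∈ E) (ha : a ∈ E) (hb : b ∈ E) :
    ⁅y, a * b⁆ = ⁅y, a⁆ * ⁅y, b⁆ := by
  have h := hL.commute (hL.comm y hy b hb) ha
  calc ⁅y, a * b⁆ = ⁅y, a⁆ * (a * ⁅y, b⁆ * a⁻¹) := by simp only [commutatorElement_def]; group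
    _ = _ := by rw [← h, mul_inv_cancel_right]

theorem comm_mul_left (hL : Layer U E) {y a b : A} (hy : y ∈ E) (ha : a ∈ E) (hb : b ∈ E) :
    ⁅a * b, y⁆ = ⁅b, y⁆ * ⁅a, y⁆ := by
  have h := hL.commute (hL.comm b hb y hy) ha
  calc ⁅a * b, y⁆ = (a * ⁅b, y⁆ * a⁻¹) * ⁅a, y⁆ := by simp only [commutatorElement_def]; group
    _ = _ := by rw [← h, mul_inv_cancel_right]

theorem comm_pow_left (hL : Layer U E) {y x : A} (hy : y ∈ E) (hx : x ∈ E) (n : ℕ) :
    ⁅y ^ n, x⁆ = ⁅y, x⁆ ^ n := by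
  induction n with
  | zero => simp
  | succ n ih =>
    rw [pow_succ y n, comm_mul_left hL hx (E.pow_mem hy n) hy, ih, ← pow_succ']

theorem comm_pow_right (hL : Layer U E) {y x : A} (hy : y ∈ E) (hx : x ∈ E) (n : ℕ) :
    ⁅y, x ^ n⁆ = ⁅y, x⁆ ^ n := by
  induction n with
  | zero => simp
  | succ n ih =>
    rw [pow_succ x n, comm_mul_right hL hy (E.pow_mem hx n) hx, ih, ← pow_succ]

namespace Eigen

variable {L : Subgroup A} {χ : A → K} {V₀ : Submodule K V} {v : V}

theorem chi_eq (h : Eigen ρ U E L χ V₀ v) {x : A} (hx : x ∈ L) {c : K} (hc : ρ x v = c • v) :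
    χ x = c :=
  smul_left_injective K h.v_ne ((h.apply' x hx v h.v_mem).symm.trans hc)

theorem chi_mul (F : Frame K ρ U E) (h : Eigen ρ U E L χ V₀ v) {x y : A} (hx : x ∈ L) (hy : y ∈ L) :
    χ (x * y) = χ x * χ y :=
  h.chi_eq (L.mul_mem hx hy) (by
    rw [apply_mul, h.apply' y hy v h.v_mem, F.lin x (h.le' hx), h.apply' x hx v h.v_mem, smul_smul,
      mul_comm])

theorem chi_one (h : Eigen ρ U E L χ V₀ v) : χ 1 = 1 :=
  h.chi_eq L.one_mem (by rw [map_one, one_smul]; rfl)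

theorem chi_pow (F : Frame K ρ U E) (h : Eigen ρ U E L χ V₀ v) {x : A} (hx : x ∈ L) (n : ℕ) :
    χ (x ^ n) = χ x ^ n := by
  induction n with
  | zero => rw [pow_zero, pow_zero, h.chi_one]
  | succ n ih => rw [pow_succ, h.chi_mul F (L.pow_mem hx n) hx, ih, pow_succ]

theorem chi_ne_zero (h : Eigen ρ U E L χ V₀ v) {x : A} (hx : x ∈ L) : χ x ≠ 0 := fun e =>
  h.v_ne (apply_injective ρ x (by rw [h.apply' x hx v h.v_mem, e, zero_smul, map_zero]))

theorem apply_U (F : Frame K ρ U E) (h : Eigen ρ U E L χ V₀ v) {z : A} (hz : z ∈ U) (w : V) :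
    ρ z w = χ z • w := by
  obtain ⟨c, hc⟩ := F.scalar z hz
  rw [h.chi_eq (h.le hz) (hc v), hc w]

theorem chi_inj (F : Frame K ρ U E) (h : Eigen ρ U E L χ V₀ v) {z : A} (hz : z ∈ U) (hz1 : χ z = 1) :
    z = 1 :=
  F.free z hz v h.v_ne (by rw [h.apply_U F hz, hz1, one_smul])

theorem le_cent (h : Eigen ρ U E L χ V₀ v) : L ≤ E ⊓ centralizer (L : Set A) := fun x hx =>
  ⟨h.le' hx, mem_centralizer_iff.2 fun y hy => h.comm y hy x hx⟩

/-- The centraliser of `L` in the layer preserves the eigenspace. -/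
theorem apply_mem (F : Frame K ρ U E) (h : Eigen ρ U E L χ V₀ v) {p : A}
    (hp : p ∈ E ⊓ centralizer (L : Set A)) {w : V} (hw : w ∈ V₀) : ρ p w ∈ V₀ :=
  h.mem _ fun x hx => by
    rw [← apply_mul, mem_centralizer_iff.1 hp.2 x hx, apply_mul, h.apply' x hx w hw, F.lin p hp.1]

/-- An element of the layer fixing a nonzero vector of the eigenspace fixes all of it. -/
theorem apply_eq (h : Eigen ρ U E L χ V₀ v) {p : A} (hp : p ∈ E) {w : V} (hw : w ∈ V₀) (hw0 : w ≠ 0)
    (hpw : ρ p w = w) {x : V} (hx : x ∈ V₀) : ρ p x = x := by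
  have hpL : p ∈ L := h.max p hp w hw hw0 1 (by rw [one_smul, hpw])
  have h1 : χ p = 1 := smul_left_injective K hw0
    (show χ p • w = (1 : K) • w by rw [one_smul, ← h.apply' p hpL w hw, hpw])
  rw [h.apply' p hpL x hx, h1, one_smul]

/-- An element fixing the chosen vector normalises `L`. -/
theorem conj_mem (F : Frame K ρ U E) (h : Eigen ρ U E L χ V₀ v) {a : A} (ha : ρ a v = v) {x : A}
    (hx : x ∈ L) : a * x * a⁻¹ ∈ L := by
  obtain ⟨c', hc'⟩ := F.semi a (χ x)
  refine h.max _ (F.layer.normal.conj_mem x (h.le' hx) a) v h.v_mem h.v_ne c' ?_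
  rw [apply_mul, apply_mul]
  conv_lhs => arg 2; arg 2; rw [← ha]
  rw [apply_inv_apply, h.apply' x hx v h.v_mem, hc', ha]

theorem fix_inv {a : A} {w : V} (ha : ρ a w = w) : ρ a⁻¹ w = w := by
  conv_lhs => rw [← ha]
  rw [apply_inv_apply]

theorem conj_mem' (F : Frame K ρ U E) (h : Eigen ρ U E L χ V₀ v) {a : A} (ha : ρ a v = v) {x : A}
    (hx : x ∈ L) : a⁻¹ * x * a ∈ L := by
  simpa using h.conj_mem F (fix_inv ha) hx

/-- An element fixing the chosen vector stabilises the eigenspace. -/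
theorem apply_mem_of_fix (F : Frame K ρ U E) (h : Eigen ρ U E L χ V₀ v) {a : A} (ha : ρ a v = v)
    {w : V} (hw : w ∈ V₀) : ρ a w ∈ V₀ := by
  refine h.mem _ fun x hx => ?_
  have hy := h.conj_mem' F ha hx
  obtain ⟨c', hc'⟩ := F.semi a (χ (a⁻¹ * x * a))
  have e : ∀ u : V, ρ x (ρ a u) = ρ a (ρ (a⁻¹ * x * a) u) := fun u => by
    rw [← apply_mul, ← apply_mul]; congr 2; group
  have h1 : c' = χ x := by
    refine (h.chi_eq hx ?_).symm
    have := e v
    rw [h.apply' _ hy v h.v_mem, hc', ha] at this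
    exact this
  rw [e, h.apply' _ hy w hw, hc', h1]

theorem conj_mem_cent (F : Frame K ρ U E) (h : Eigen ρ U E L χ V₀ v) {a : A} (ha : ρ a v = v) {p : A}
    (hp : p ∈ E ⊓ centralizer (L : Set A)) : a * p * a⁻¹ ∈ E ⊓ centralizer (L : Set A) := by
  refine ⟨F.layer.normal.conj_mem p hp.1 a, mem_centralizer_iff.2 fun x hx => ?_⟩
  have h1 := mem_centralizer_iff.1 hp.2 _ (h.conj_mem' F ha hx)
  calc x * (a * p * a⁻¹) = a * ((a⁻¹ * x * a) * p) * a⁻¹ := by group
    _ = a * (p * (a⁻¹ * x * a)) * a⁻¹ := by rw [h1]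
    _ = _ := by group

/-- The index of the centraliser of `L` is that of `U` in `L`. -/
theorem relIndex_cent (F : Frame K ρ U E) (h : Eigen ρ U E L χ V₀ v) :
    (E ⊓ centralizer (L : Set A)).relIndex E = U.relIndex L := by
  haveI := F.cyclic
  set P := E ⊓ centralizer (L : Set A) with hP
  refine le_antisymm (F.layer.relIndex_perp_le h.le h.le') ?_
  have hn : (P.subgroupOf E).Normal := by
    refine ⟨fun x hx y => ?_⟩
    rw [mem_subgroupOf] at hx ⊢
    have h1 := F.layer.comm y y.2 x x.2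
    have h2 : (y : A) * x * (y : A)⁻¹ = ⁅(y : A), (x : A)⁆ * x := by
      rw [commutatorElement_def]; group
    show (y : A) * x * (y : A)⁻¹ ∈ P
    rw [h2]
    exact P.mul_mem (h.le_cent (h.le h1)) hx
  refine le_trans (Subgroup.relIndex_le_of_le_left ?_ FiniteIndex.index_ne_zero)
    (relIndex_centralizer_le (U := U) (N := P) (X := E) (Y := L) inf_le_left hn
      (fun u hu x hx => F.layer.commute hu hx) (fun x hx y hy => F.layer.comm y (h.le' hy) x hx)
      fun x hx y hy => mem_centralizer_iff.1 hx.2 y hy)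
  exact fun x hx => F.layer.center_le ⟨h.le' hx.1, hx.2⟩

/-- Double centraliser. -/
theorem cent_cent (F : Frame K ρ U E) (h : Eigen ρ U E L χ V₀ v) :
    E ⊓ centralizer ((E ⊓ centralizer (L : Set A) : Subgroup A) : Set A) = L := by
  haveI := F.cyclic
  set P := E ⊓ centralizer (L : Set A) with hP
  set Q := E ⊓ centralizer (P : Set A) with hQ
  have hLQ : L ≤ Q := fun x hx => ⟨h.le' hx, mem_centralizer_iff.2 fun y hy =>
    (mem_centralizer_iff.1 hy.2 x hx).symm⟩
  have hn : (P.subgroupOf E).Normal := by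
    refine ⟨fun x hx y => ?_⟩
    rw [mem_subgroupOf] at hx ⊢
    have h1 := F.layer.comm y y.2 x x.2
    have h2 : (y : A) * x * (y : A)⁻¹ = ⁅(y : A), (x : A)⁆ * x := by
      rw [commutatorElement_def]; group
    show (y : A) * x * (y : A)⁻¹ ∈ P
    rw [h2]
    exact P.mul_mem (h.le_cent (h.le h1)) hx
  have h1 : U.relIndex Q ≤ U.relIndex L := by
    rw [← h.relIndex_cent F]
    refine le_trans (Subgroup.relIndex_le_of_le_left ?_ FiniteIndex.index_ne_zero)
      (relIndex_centralizer_le (U := U) (N := P) (X := E) (Y := Q) inf_le_left hn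
        (fun u hu x hx => F.layer.commute hu hx) (fun x hx y hy => F.layer.comm y hy.1 x hx)
        fun x hx y hy => (mem_centralizer_iff.1 hy.2 x hx).symm)
    exact fun x hx => F.layer.center_le ⟨hx.1.1, hx.2⟩
  refine le_antisymm ?_ hLQ
  have h2 := relIndex_mul_relIndex U L Q h.le hLQ
  have hpos : 0 < U.relIndex L := Nat.pos_of_ne_zero FiniteIndex.index_ne_zero
  have h3 : L.relIndex Q ≤ 1 := Nat.le_of_mul_le_mul_left (by rw [mul_one, h2]; exact h1) hpos
  have h4 : 0 < L.relIndex Q := Nat.pos_of_ne_zero FiniteIndex.index_ne_zero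
  exact relIndex_eq_one.1 (by omega)

/-- Outside `L` the centraliser of `L` is not central. -/
theorem exists_comm (F : Frame K ρ U E) (h : Eigen ρ U E L χ V₀ v) {y : A}
    (hy : y ∈ E ⊓ centralizer (L : Set A)) (hyL : y ∉ L) :
    ∃ x ∈ E ⊓ centralizer (L : Set A), ⁅y, x⁆ ≠ 1 := by
  by_contra hcon
  push Not at hcon
  refine hyL ((h.cent_cent F).le ⟨hy.1, mem_centralizer_iff.2 fun x hx => ?_⟩)
  exact (commutatorElement_eq_one_iff_mul_comm.1 (hcon x hx)).symm

/-- The order of `L` is invertible in the field. -/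
theorem card_ne_zero (F : Frame K ρ U E) (h : Eigen ρ U E L χ V₀ v) :
    (Nat.card L : K) ≠ 0 := by
  haveI := F.cyclic
  intro h0
  have hdvd : ∀ p : ℕ, p.Prime → p ∣ Nat.card L → p ∣ Nat.card U := by
    intro p hp hd
    have h1 : Nat.card L = Nat.card U * U.relIndex L := by
      rw [← relIndex_bot_left, ← relIndex_bot_left, relIndex_mul_relIndex ⊥ U L bot_le h.le]
    rw [h1] at hd
    rcases (Nat.Prime.dvd_mul hp).1 hd with hd | hd
    · exact hd
    · exact F.layer.dvd_card hp (hd.trans ⟨_, (relIndex_mul_relIndex U L E h.le h.le').symm⟩)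
  -- the characteristic divides the order of `L`
  obtain ⟨p, hp⟩ := CharP.exists K
  have hpd : p ∣ Nat.card L := (CharP.cast_eq_zero_iff K p _).1 h0
  have hp0 : p ≠ 0 := by
    rintro rfl
    exact (Nat.card_pos (α := L)).ne' (zero_dvd_iff.1 hpd)
  have hprime : p.Prime := (CharP.char_is_prime_or_zero K p).resolve_right hp0
  haveI := Fact.mk hprime
  obtain ⟨z, hz⟩ := exists_prime_orderOf_dvd_card' p (hdvd p hprime hpd)
  have hzp : (z : A) ^ p = 1 := by
    have := pow_orderOf_eq_one z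
    rw [hz] at this
    exact congrArg Subtype.val this
  have h1 : χ (z : A) ^ p = 1 := by rw [← h.chi_pow F (h.le z.2), hzp, h.chi_one]
  have h2 : (χ (z : A) - 1) ^ p = 0 := by rw [sub_pow_char, h1, one_pow, sub_self]
  have h3 : (z : A) = 1 := h.chi_inj F z.2 (sub_eq_zero.1 (pow_eq_zero_iff hp0 |>.1 h2))
  rw [show z = 1 from Subtype.ext h3, orderOf_one] at hz
  exact hprime.one_lt.ne hz

theorem comm_congr (F : Frame K ρ U E) {y x x' : A} (hy : y ∈ L) (hy' : y ∈ E) (hx : x ∈ E)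
    (_hx' : x' ∈ E) (hxx : x⁻¹ * x' ∈ E ⊓ centralizer (L : Set A)) : ⁅y, x⁆ = ⁅y, x'⁆ := by
  have h1 : ⁅y, x⁻¹ * x'⁆ = 1 :=
    commutatorElement_eq_one_iff_mul_comm.2 (mem_centralizer_iff.1 hxx.2 y hy)
  have h2 := comm_mul_right F.layer hy' hx hxx.1
  rw [mul_inv_cancel_left, h1, mul_one] at h2
  exact h2.symm

/-- The operator cutting out the block of `x`. -/
noncomputable def blockOp (ρ : A →* AddMonoid.End V) (L : Subgroup A) (χ : A → K) (x : A) (w : V) :
    V :=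
  letI : Fintype L := Fintype.ofFinite L
  ∑ y : L, (χ ⁅(y : A), x⁆ * χ y)⁻¹ • ρ (y : A) w

theorem blockOp_apply [Fintype L] (x : A) (w : V) :
    blockOp ρ L χ x w = ∑ y : L, (χ ⁅(y : A), x⁆ * χ y)⁻¹ • ρ (y : A) w := by
  unfold blockOp
  congr 1
  exact congrArg (fun i => @Finset.univ L i) (Subsingleton.elim _ _)

theorem blockOp_add (x : A) (w w' : V) :
    blockOp ρ L χ x (w + w') = blockOp ρ L χ x w + blockOp ρ L χ x w' := by
  haveI : Fintype L := Fintype.ofFinite L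
  simp only [blockOp_apply, map_add, smul_add, Finset.sum_add_distrib]

theorem blockOp_zero (x : A) : blockOp ρ L χ x (0 : V) = 0 := by
  haveI : Fintype L := Fintype.ofFinite L
  simp [blockOp_apply]

/-- The value of a block operator lies in the block. -/
theorem blockOp_mem (F : Frame K ρ U E) (h : Eigen ρ U E L χ V₀ v) {x : A} (hx : x ∈ E) (w : V) :
    ∃ u ∈ V₀, ρ x u = blockOp ρ L χ x w := by
  haveI : Fintype L := Fintype.ofFinite L
  refine ⟨ρ x⁻¹ (blockOp ρ L χ x w), h.mem _ fun z hz => ?_, apply_apply_inv _ _ _⟩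
  set u := ρ x⁻¹ (blockOp ρ L χ x w) with hu
  have hzE := h.le' hz
  have hcU := F.layer.comm z hzE x hx
  have hf : χ ⁅z, x⁆ * χ z ≠ 0 := mul_ne_zero (h.chi_ne_zero (h.le hcU)) (h.chi_ne_zero hz)
  have h1 : ρ z (blockOp ρ L χ x w) = (χ ⁅z, x⁆ * χ z) • blockOp ρ L χ x w := by
    rw [blockOp_apply, map_sum, Finset.smul_sum]
    refine Fintype.sum_equiv (Equiv.mulLeft (⟨z, hz⟩ : L)) _ _ fun y => ?_
    rw [F.lin z hzE, ← apply_mul]
    show _ = (χ ⁅z, x⁆ * χ z) • ((χ ⁅z * (y : A), x⁆ * χ (z * (y : A)))⁻¹ • ρ (z * (y : A)) w)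
    rw [smul_smul, comm_mul_left F.layer hx hzE (h.le' y.2),
      h.chi_mul F (h.le (F.layer.comm _ (h.le' y.2) _ hx)) (h.le hcU), h.chi_mul F hz y.2]
    congr 1
    have h2 := h.chi_ne_zero y.2
    have h3 := h.chi_ne_zero (h.le (F.layer.comm _ (h.le' y.2) _ hx))
    have h4 := h.chi_ne_zero hz
    have h5 := h.chi_ne_zero (h.le hcU)
    field_simp
  rw [show blockOp ρ L χ x w = ρ x u from (apply_apply_inv _ _ _).symm, ← apply_mul,
    show z * x = ⁅z, x⁆ * (x * z) by rw [commutatorElement_def]; group, apply_mul,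
    h.apply_U F hcU, apply_mul, mul_comm, ← smul_smul, ← F.lin x hx] at h1
  rw [F.lin x hx, smul_comm (χ z), ← F.lin x hx] at h1
  rw [F.lin x hx] at h1
  exact apply_injective ρ x ((smul_right_injective V (h.chi_ne_zero (h.le hcU)) h1).trans (F.lin x hx _ _).symm)

/-- A block operator kills the other blocks and multiplies its own by the order of `L`. -/
theorem blockOp_block (F : Frame K ρ U E) (h : Eigen ρ U E L χ V₀ v) {x x' : A} (hx : x ∈ E)
    (hx' : x' ∈ E) {u : V} (hu : u ∈ V₀) :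
    (x⁻¹ * x' ∈ E ⊓ centralizer (L : Set A) →
      blockOp ρ L χ x (ρ x' u) = (Nat.card L : K) • ρ x' u) ∧
    (x⁻¹ * x' ∉ E ⊓ centralizer (L : Set A) → blockOp ρ L χ x (ρ x' u) = 0) := by
  haveI : Fintype L := Fintype.ofFinite L
  let θ : L → K := fun y => χ ⁅(y : A), x'⁆ / χ ⁅(y : A), x⁆
  have hne : ∀ (y : L) {z : A}, z ∈ E → χ ⁅(y : A), z⁆ ≠ 0 := fun y z hz =>
    h.chi_ne_zero (h.le (F.layer.comm _ (h.le' y.2) _ hz))
  have hterm : ∀ y : L, (χ ⁅(y : A), x⁆ * χ y)⁻¹ • ρ (y : A) (ρ x' u) = θ y • ρ x' u := by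
    intro y
    have hcU := F.layer.comm _ (h.le' y.2) x' hx'
    rw [← apply_mul, show (y : A) * x' = ⁅(y : A), x'⁆ * (x' * y) by
      rw [commutatorElement_def]; group, apply_mul, h.apply_U F hcU, apply_mul,
      h.apply' y y.2 u hu, F.lin x' hx', smul_smul, smul_smul]
    congr 1
    have h0 := hne y hx
    have h1 := h.chi_ne_zero y.2
    simp only [θ]
    field_simp
  have hsum : blockOp ρ L χ x (ρ x' u) = (∑ y : L, θ y) • ρ x' u := by
    rw [blockOp_apply, Finset.sum_smul]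
    exact Finset.sum_congr rfl fun y _ => hterm y
  constructor
  · intro hxx
    rw [hsum]
    congr 1
    rw [Finset.sum_congr rfl (fun y _ => show θ y = 1 by
      simp only [θ]
      rw [comm_congr F y.2 (h.le' y.2) hx hx' hxx, div_self (hne y hx')]), Finset.sum_const,
      Finset.card_univ, nsmul_one, ← Nat.card_eq_fintype_card]
  · intro hxx
    rw [hsum]
    obtain ⟨y₀, hy₀⟩ : ∃ y : L, θ y ≠ 1 := by
      by_contra hcon
      push Not at hcon
      refine hxx ⟨E.mul_mem (E.inv_mem hx) hx', mem_centralizer_iff.2 fun y hy => ?_⟩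
      have hxi : x⁻¹ ∈ E := E.inv_mem hx
      have e1 : χ ⁅y, x'⁆ = χ ⁅y, x⁆ := (div_eq_one_iff_eq (hne ⟨y, hy⟩ hx)).1 (hcon ⟨y, hy⟩)
      have hyE := h.le' hy
      have e2 := comm_mul_right F.layer hyE hx (E.mul_mem hxi hx')
      rw [mul_inv_cancel_left] at e2
      rw [e2, h.chi_mul F (h.le (F.layer.comm _ hyE _ hx))
        (h.le (F.layer.comm _ hyE _ (E.mul_mem hxi hx')))] at e1
      have e3 := h.chi_inj F (F.layer.comm _ hyE _ (E.mul_mem hxi hx'))
        ((mul_eq_left₀ (hne ⟨y, hy⟩ hx)).1 e1)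
      exact commutatorElement_eq_one_iff_mul_comm.1 e3
    have hmul : ∀ y : L, θ (y₀ * y) = θ y₀ * θ y := by
      intro y
      simp only [θ, Subgroup.coe_mul]
      rw [comm_mul_left F.layer hx' (h.le' y₀.2) (h.le' y.2),
        comm_mul_left F.layer hx (h.le' y₀.2) (h.le' y.2),
        h.chi_mul F (h.le (F.layer.comm _ (h.le' y.2) _ hx'))
          (h.le (F.layer.comm _ (h.le' y₀.2) _ hx')),
        h.chi_mul F (h.le (F.layer.comm _ (h.le' y.2) _ hx))
          (h.le (F.layer.comm _ (h.le' y₀.2) _ hx)),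
        mul_comm (χ ⁅(y : A), x'⁆), mul_comm (χ ⁅(y : A), x⁆), mul_div_mul_comm]
    have h2 : θ y₀ * (∑ y : L, θ y) = ∑ y : L, θ y := by
      rw [Finset.mul_sum]
      exact Fintype.sum_equiv (Equiv.mulLeft y₀) _ _ fun y => (hmul y).symm
    rw [show (∑ y : L, θ y) = 0 from by
      by_contra h0
      exact hy₀ ((mul_eq_right₀ h0).1 h2), zero_smul]

/-- The block operators sum to the order of `L`. -/
theorem sum_blockOp (F : Frame K ρ U E) (h : Eigen ρ U E L χ V₀ v)
    [Fintype (E ⧸ (E ⊓ centralizer (L : Set A)).subgroupOf E)]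
    (r : E ⧸ (E ⊓ centralizer (L : Set A)).subgroupOf E → E)
    (hr : ∀ g, ((r g : E) : E ⧸ (E ⊓ centralizer (L : Set A)).subgroupOf E) = g) (w : V) :
    ∑ g, blockOp ρ L χ (r g : A) w = (Nat.card L : K) • w := by
  classical
  haveI : Fintype L := Fintype.ofFinite L
  have hne : ∀ (y : A) (hy : y ∈ L) {z : A}, z ∈ E → χ ⁅y, z⁆ ≠ 0 := fun y hy z hz =>
    h.chi_ne_zero (h.le (F.layer.comm _ (h.le' hy) _ hz))
  have hinner : ∀ y : L, (∑ g : (E ⧸ (E ⊓ centralizer (L : Set A)).subgroupOf E), (χ ⁅(y : A), (r g : A)⁆)⁻¹) =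
      if (y : A) ∈ U then (Fintype.card (E ⧸ (E ⊓ centralizer (L : Set A)).subgroupOf E) : K) else 0 := by
    intro y
    split_ifs with hyU
    · rw [Finset.sum_congr rfl (fun g _ => show (χ ⁅(y : A), (r g : A)⁆)⁻¹ = 1 by
        rw [commutatorElement_eq_one_iff_mul_comm.2 (F.layer.commute hyU (r g).2), h.chi_one,
          inv_one]), Finset.sum_const, Finset.card_univ, nsmul_one]
    · obtain ⟨x₀, hx₀, hne₀⟩ := F.layer.exists_comm_ne_one (h.le' y.2) hyU
      set c := (χ ⁅(y : A), x₀⁆)⁻¹ with hc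
      have hc1 : c ≠ 1 := fun e => hne₀ (h.chi_inj F (F.layer.comm _ (h.le' y.2) _ hx₀)
        (inv_eq_one.1 e))
      set S := ∑ g : (E ⧸ (E ⊓ centralizer (L : Set A)).subgroupOf E), (χ ⁅(y : A), (r g : A)⁆)⁻¹ with hS
      have h2 : c * S = S := by
        rw [hS, Finset.mul_sum]
        refine Fintype.sum_equiv (MulAction.toPerm (⟨x₀, hx₀⟩ : E)) _ _ fun g => ?_
        have hg : (x₀ * (r g : A))⁻¹ * (r ((⟨x₀, hx₀⟩ : E) • g) : A) ∈ E ⊓ centralizer (L : Set A) := by
          have e1 : (((⟨x₀, hx₀⟩ : E) * r g : E) : (E ⧸ (E ⊓ centralizer (L : Set A)).subgroupOf E)) = r ((⟨x₀, hx₀⟩ : E) • g) := by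
            rw [hr]
            conv_rhs => rw [← hr g]
            rfl
          exact mem_subgroupOf.1 (QuotientGroup.eq.1 e1)
        show c * _ = (χ ⁅(y : A), (r ((⟨x₀, hx₀⟩ : E) • g) : A)⁆)⁻¹
        rw [← comm_congr F y.2 (h.le' y.2) (E.mul_mem hx₀ (r g).2) (r _).2 hg,
          comm_mul_right F.layer (h.le' y.2) hx₀ (r g).2,
          h.chi_mul F (h.le (F.layer.comm _ (h.le' y.2) _ hx₀))
            (h.le (F.layer.comm _ (h.le' y.2) _ (r g).2)), mul_inv]
      by_contra h0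
      exact hc1 ((mul_eq_right₀ h0).1 h2)
  simp only [blockOp_apply]
  rw [Finset.sum_comm]
  have hcalc : ∀ y : L, (∑ g : (E ⧸ (E ⊓ centralizer (L : Set A)).subgroupOf E), (χ ⁅(y : A), (r g : A)⁆ * χ y)⁻¹ • ρ (y : A) w) =
      (if (y : A) ∈ U then (Fintype.card (E ⧸ (E ⊓ centralizer (L : Set A)).subgroupOf E) : K) else 0) • w := by
    intro y
    rw [← Finset.sum_smul]
    simp only [mul_inv]
    rw [← Finset.sum_mul, hinner y]
    split_ifs with hyU
    · rw [h.apply_U F hyU, smul_smul, mul_assoc, inv_mul_cancel₀ (h.chi_ne_zero y.2), mul_one]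
    · rw [zero_mul, zero_smul, zero_smul]
  rw [Finset.sum_congr rfl fun y _ => hcalc y, ← Finset.sum_smul]
  congr 1
  rw [← Finset.sum_filter, Finset.sum_const, nsmul_eq_mul]
  have h1 : (Finset.univ.filter fun y : L => (y : A) ∈ U).card = Nat.card U := by
    rw [← Fintype.card_subtype, ← Nat.card_eq_fintype_card]
    exact Nat.card_congr ⟨fun y => ⟨y.1, y.2⟩, fun z => ⟨⟨z, h.le z.2⟩, z.2⟩, fun _ => rfl,
      fun _ => rfl⟩
  rw [h1, ← Nat.cast_mul]
  congr 1
  rw [← Nat.card_eq_fintype_card]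
  show Nat.card U * (E ⊓ centralizer (L : Set A)).relIndex E = _
  rw [h.relIndex_cent F, ← relIndex_bot_left, ← relIndex_bot_left,
    relIndex_mul_relIndex ⊥ U L bot_le h.le]

end Eigen

end CfsgLib.TripleBase
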